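import Cfsg.Agent.BlocksLocal.CentralQuotient
import Cfsg.Agent.Blocks.Defect
import Cfsg.Agent.Blocks.RegularSupport

/-!
# A block and a central `p`-subgroup

For a central `p`-subgroup `Q` the regular rank of a block is at most the number of its members
with `Q` in the kernel.  These are the inflations of one block of the quotient, whose defect
groups are images of defect groups of the block.
-/

set_option autoImplicit false
set_option linter.unusedSectionVars false
set_option linter.style.haveILetI false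

namespace CfsgLib.AbelianDefect

open Cfsg CfsgLib.Blocks CfsgLib.BlockPairing
open CfsgLib.BlocksLocal.CentralQuotient (infl infl_injective exists_infl kerPart)
open CfsgLib.Codegree (KerContains sum_coset_eq_zero)
open scoped ComplexConjugate

universe u

variable {H : Type u} [Group H] [Fintype H] {M : Ideal AlgInt} [M.IsPrime] {p : ℕ}
  [hp : Fact p.Prime] (Q : Subgroup H) [Q.Normal]
  (hQ : IsPGroup p Q) (hQc : Q ≤ Subgroup.center H)
include hQ hQc

open Classical in
/-- On the p-regular elements a class function is a combination of characters trivial on `Q`. -/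
theorem regular_expansion {f : H → ℂ} (hf : Cfsg.IsClassFunction H f) {x : H}
    (hx : ¬ p ∣ orderOf x) :
    f x = ∑ ψ : IrrCharacter H,
      if KerContains ψ Q then (Nat.card Q : ℂ) * regInner p f ψ * (ψ : H → ℂ) x else 0 := by
  haveI := Fintype.ofFinite Q
  set F := Cfsg.pRegularPart p f with hF
  have hFc : Cfsg.IsClassFunction H F := isClassFunction_pRegularPart p hf
  set h : H → ℂ := fun g => ∑ q : Q, F (g * q) with hh
  have hhc : Cfsg.IsClassFunction H h := by
    intro g c
    simp only [hh]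
    refine Finset.sum_congr rfl fun q _ => ?_
    rw [← hFc (g * (q : H)) c]
    congr 1
    have : c * (q : H) = (q : H) * c := Subgroup.mem_center_iff.1 (hQc q.2) c
    calc c * g * c⁻¹ * q = c * g * (c⁻¹ * (q * c)) * c⁻¹ := by group
      _ = c * (g * q) * c⁻¹ := by rw [← this]; group
  have hhx : h x = f x := by
    simp only [hh]
    rw [Finset.sum_eq_single (1 : Q) (fun q _ hq => ?_) (by simp)]
    · simp [hF, pRegularPart_apply, hx]
    · rw [hF, pRegularPart_apply, if_pos]
      by_contra hr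
      refine hq (Subtype.ext ?_)
      have := BlocksCharsC.SmallCent.regular_eq_of_mk_eq Q hQ hQc hx hr
        (QuotientGroup.eq.2 (by simp))
      simpa using this.symm
  have hinner : ∀ ψ : IrrCharacter H, Cfsg.classInner h (ψ : H → ℂ) =
      if KerContains ψ Q then (Nat.card Q : ℂ) * regInner p f ψ else 0 := by
    intro ψ
    have e : Cfsg.classInner h (ψ : H → ℂ) =
        (Nat.card H : ℂ)⁻¹ * ∑ y : H, F y * conj (∑ q : Q, (ψ : H → ℂ) (y * q)) := by
      simp only [Cfsg.classInner, hh, Finset.sum_mul, map_sum, Finset.mul_sum]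
      rw [Finset.sum_comm, Finset.sum_comm (γ := H)]
      refine Fintype.sum_equiv (Equiv.inv Q) _ _ fun q => ?_
      refine Fintype.sum_equiv (Equiv.mulRight (q : H)) _ _ fun g => ?_
      simp
    rw [e]
    split_ifs with hk
    · obtain ⟨η, rfl⟩ := exists_infl Q hk
      have hsum : ∀ y : H, (∑ q : Q, (infl Q η : H → ℂ) (y * q)) =
          (Nat.card Q : ℂ) * (infl Q η : H → ℂ) y := by
        intro y
        rw [Finset.sum_congr rfl fun (q : Q) _ => show (infl Q η : H → ℂ) (y * q) = (infl Q η : H → ℂ) y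
          from congrArg (η : H ⧸ Q → ℂ) (QuotientGroup.eq.2 (by simp)),
          Finset.sum_const, Finset.card_univ, ← Nat.card_eq_fintype_card, nsmul_eq_mul]
      simp only [hsum, map_mul, map_natCast]
      rw [← classInner_pRegularPart, Cfsg.classInner, ← hF]
      simp only [Finset.mul_sum]
      exact Finset.sum_congr rfl fun y _ => by ring
    · simp [sum_coset_eq_zero ψ Q hk]
  conv_lhs => rw [← hhx, Characters.classFunction_expansion hhc]
  rw [Finset.sum_apply]
  refine Finset.sum_congr rfl fun ψ _ => ?_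
  rw [Pi.smul_apply, smul_eq_mul, hinner]
  split_ifs <;> ring

variable {B : Set (IrrCharacter H)}

open Classical in
theorem blockRank_le_card (hM : Cfsg.IsPModular p M) (hB : Cfsg.IsPBlock M B) :
    Cfsg.blockRank p B ≤ Nat.card (kerPart Q B) := by
  refine le_trans ?_ (le_of_le_of_eq (finrank_range_le_card (R := ℂ) fun ψ : kerPart Q B =>
    Cfsg.pRegularPart p ((ψ : IrrCharacter H) : H → ℂ)) Nat.card_eq_fintype_card.symm)
  rw [Cfsg.blockRank]
  refine Submodule.finrank_mono (Submodule.span_le.2 ?_)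
  rintro _ ⟨χ, hχ, rfl⟩
  have he : Cfsg.pRegularPart p (χ : H → ℂ) = ∑ ψ ∈ (kerPart Q B).toFinset,
      ((Nat.card Q : ℂ) * regInner p (χ : H → ℂ) ψ) • Cfsg.pRegularPart p (ψ : H → ℂ) := by
    funext x
    rw [Finset.sum_apply]
    by_cases hx : p ∣ orderOf x
    · simp [pRegularPart_apply, hx]
    · simp only [Pi.smul_apply, smul_eq_mul, pRegularPart_apply, if_neg hx]
      rw [regular_expansion Q hQ hQc (Characters.isClassFunction_of_isIrr χ.2) hx,
        ← Finset.sum_filter]
      refine (Finset.sum_subset (fun ψ hψ => ?_) fun ψ hψ hn => ?_).symm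
      · exact Finset.mem_filter.2 ⟨Finset.mem_univ _, (Set.mem_toFinset.1 hψ).2⟩
      · rw [Contributions.regInner_eq_zero hM hB hχ
          (fun h => hn (Set.mem_toFinset.2 ⟨h, (Finset.mem_filter.1 hψ).2⟩)), mul_zero, zero_mul]
  rw [SetLike.mem_coe]
  show Cfsg.pRegularPart p (χ : H → ℂ) ∈ _
  rw [he]
  exact Submodule.sum_mem _ fun ψ hψ => Submodule.smul_mem _ _
    (Submodule.subset_span ⟨⟨ψ, Set.mem_toFinset.1 hψ⟩, rfl⟩)

theorem centralChar_infl (η : IrrCharacter (H ⧸ Q)) {g : H} (hg : ¬ p ∣ orderOf g) :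
    Cfsg.centralChar (infl Q η : H → ℂ) g =
      Cfsg.centralChar (η : H ⧸ Q → ℂ) (g : H ⧸ Q) := by
  haveI := Fintype.ofFinite (H ⧸ Q)
  simp only [Cfsg.centralChar, infl, QuotientGroup.mk_one,
    BlocksCharsC.SmallCent.index_centralizer_mk Q hQ hQc hg]

theorem sameBlock_infl_iff (hM : Cfsg.IsPModular p M) (η ξ : IrrCharacter (H ⧸ Q)) :
    Cfsg.SameBlock M (infl Q η : H → ℂ) (infl Q ξ : H → ℂ) ↔
      Cfsg.SameBlock M (η : H ⧸ Q → ℂ) (ξ : H ⧸ Q → ℂ) := by
  haveI := Fintype.ofFinite (H ⧸ Q)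
  constructor
  · intro h
    refine BlocksCharsC.sameBlock_of_regular hM fun z hz => ?_
    obtain ⟨g, hg, rfl⟩ := BlocksCharsC.SmallCent.exists_regular_lift Q hz
    rw [← centralChar_infl Q hQ hQc η hg, ← centralChar_infl Q hQ hQc ξ hg]
    exact h g
  · intro h
    refine BlocksCharsC.sameBlock_of_regular hM fun g hg => ?_
    rw [centralChar_infl Q hQ hQc η hg, centralChar_infl Q hQ hQc ξ hg]
    exact h g

open Classical in
/-- The idempotent coefficients at a regular element. -/
theorem blockCoeff_quotient (hM : Cfsg.IsPModular p M) (hB : Cfsg.IsPBlock M B) [Fintype (H ⧸ Q)]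
    {Bq : Set (IrrCharacter (H ⧸ Q))} (hBq : kerPart Q B = infl Q '' Bq) {g : H}
    (hg : ¬ p ∣ orderOf g) :
    Cfsg.blockCoeff Bq (g : H ⧸ Q) = Cfsg.blockCoeff B g := by
  haveI := Fintype.ofFinite Q
  have hsing : ∀ q : Q, q ≠ 1 → Cfsg.blockCoeff B (g * q) = 0 := fun q hq =>
    blockCoeff_eq_zero_of_singular hM (isBlockUnion_of_isPBlock hB) (by
      by_contra hr
      refine hq (Subtype.ext ?_)
      simpa using (BlocksCharsC.SmallCent.regular_eq_of_mk_eq Q hQ hQc hg hr
        (QuotientGroup.eq.2 (by simp))).symm)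
  have h1 : ∑ q : Q, Cfsg.blockCoeff B (g * q) = Cfsg.blockCoeff B g := by
    rw [Finset.sum_eq_single (1 : Q) (fun q _ hq => hsing q hq) (by simp)]
    simp
  rw [← h1]
  simp only [blockCoeff_eq_sum, ← Finset.sum_filter, ← Finset.mul_sum]
  conv_rhs => rw [Finset.sum_comm]
  simp only [← Finset.mul_sum, ← map_sum]
  have h2 : ∑ χ ∈ Finset.univ.filter (· ∈ B),
      (χ : H → ℂ) 1 * conj (∑ q : Q, (χ : H → ℂ) (g * q)) =
      ∑ χ ∈ Finset.univ.filter (· ∈ kerPart Q B),
        (χ : H → ℂ) 1 * conj (∑ q : Q, (χ : H → ℂ) (g * q)) := by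
    refine (Finset.sum_subset (fun χ h => ?_) fun χ h hn => ?_).symm
    · exact Finset.mem_filter.2 ⟨Finset.mem_univ _, (Finset.mem_filter.1 h).2.1⟩
    · rw [sum_coset_eq_zero χ Q (fun hk => hn (Finset.mem_filter.2
        ⟨Finset.mem_univ _, (Finset.mem_filter.1 h).2, hk⟩)), map_zero, mul_zero]
  rw [h2, Subgroup.card_eq_card_quotient_mul_card_subgroup Q]
  have h3 : Finset.univ.filter (· ∈ kerPart Q B) = (Finset.univ.filter (· ∈ Bq)).image (infl Q) := by
    ext χ
    simp [hBq, eq_comm]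
  rw [h3, Finset.sum_image fun a _ b _ h => infl_injective Q h, Finset.mul_sum, Finset.mul_sum]
  refine Finset.sum_congr rfl fun η _ => ?_
  have hsum : ∑ q : Q, (infl Q η : H → ℂ) (g * q) =
      (Nat.card Q : ℂ) * (η : H ⧸ Q → ℂ) (g : H ⧸ Q) := by
    rw [Finset.sum_congr rfl fun (q : Q) _ => show (infl Q η : H → ℂ) (g * q) =
      (η : H ⧸ Q → ℂ) (g : H ⧸ Q) from congrArg (η : H ⧸ Q → ℂ) (QuotientGroup.eq.2 (by simp)),
      Finset.sum_const, Finset.card_univ, ← Nat.card_eq_fintype_card, nsmul_eq_mul]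
  have hc : (Nat.card Q : ℂ) ≠ 0 := Nat.cast_ne_zero.2 Nat.card_pos.ne'
  rw [hsum, map_mul, map_natCast, Nat.cast_mul, mul_inv,
    show (infl Q η : H → ℂ) 1 = (η : H ⧸ Q → ℂ) 1 from congrArg (η : H ⧸ Q → ℂ) (QuotientGroup.mk_one Q)]
  field_simp

open Classical in
/-- The block of the quotient, with the images of defect groups as defect groups. -/
theorem exists_quotient_block (hM : Cfsg.IsPModular p M) (hB : Cfsg.IsPBlock M B) :
    ∃ Bq : Set (IrrCharacter (H ⧸ Q)), Cfsg.IsPBlock M Bq ∧ kerPart Q B = infl Q '' Bq ∧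
      Cfsg.blockRank p B ≤ Nat.card Bq ∧
      ∃ D, Cfsg.IsDefectGroup p M B D ∧ Q ≤ D ∧
        Cfsg.IsDefectGroup p M Bq (D.map (QuotientGroup.mk' Q)) := by
  haveI := Fintype.ofFinite (H ⧸ Q)
  obtain ⟨θ, hθ, hθk⟩ := CentralDefect.exists_kerContains hM hB Q hQ
  obtain ⟨θ', hθ'⟩ := exists_infl Q hθk
  set Bq := Cfsg.blockOf M (θ' : H ⧸ Q → ℂ) with hBqdef
  have hBq : Cfsg.IsPBlock M Bq := isPBlock_blockOf θ'
  have hBθ := eq_blockOf_of_mem hB hθ
  have himg : kerPart Q B = infl Q '' Bq := by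
    ext χ
    constructor
    · rintro ⟨hχB, hχk⟩
      obtain ⟨η, rfl⟩ := exists_infl Q hχk
      refine ⟨η, mem_blockOf.2 ((sameBlock_infl_iff Q hQ hQc hM θ' η).1 ?_), rfl⟩
      rw [hθ']
      rw [hBθ] at hχB
      exact mem_blockOf.1 hχB
    · rintro ⟨η, hη, rfl⟩
      refine ⟨?_, fun z hz => congrArg (η : H ⧸ Q → ℂ) ?_⟩
      · rw [hBθ, ← hθ']
        exact mem_blockOf.2 ((sameBlock_infl_iff Q hQ hQc hM θ' η).2 (mem_blockOf.1 hη))
      · rw [(QuotientGroup.eq_one_iff z).2 hz, QuotientGroup.mk_one]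
  refine ⟨Bq, hBq, himg, (blockRank_le_card Q hQ hQc hM hB).trans (le_of_eq ?_), ?_⟩
  · rw [himg, Nat.card_image_of_injective (infl_injective Q)]
  obtain ⟨g, hg⟩ := exists_isDefectClass (M := M) hB
  have hreg : ¬ p ∣ orderOf g := fun h => hg.2.1 (by
    rw [blockCoeff_eq_zero_of_singular hM (isBlockUnion_of_isPBlock hB) h]
    exact memLocalIdeal_zero)
  have hgq : Cfsg.IsDefectClass M Bq (g : H ⧸ Q) := by
    obtain ⟨h1, h2, h3⟩ := hg
    refine ⟨?_, ?_, fun η hη => ?_⟩
    · rwa [blockCoeff_quotient Q hQ hQc hM hB himg hreg]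
    · rwa [blockCoeff_quotient Q hQ hQc hM hB himg hreg]
    · rw [← centralChar_infl Q hQ hQc η hreg]
      exact h3 _ (himg.symm ▸ Set.mem_image_of_mem (infl Q) hη :).1
  have hQg : Q ≤ Subgroup.centralizer ({g} : Set H) := fun q hq =>
    Subgroup.mem_centralizer_singleton_iff.2 (Subgroup.mem_center_iff.1 (hQc hq) g).symm
  obtain ⟨D, hD, hQD⟩ := exists_isSylowIn_ge hQ hQg
  refine ⟨D, isDefectGroup_iff.2 ⟨g, hg, hD⟩, hQD,
    isDefectGroup_iff.2 ⟨(g : H ⧸ Q), hgq, ?_, hD.2.1.map _, ?_⟩⟩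
  · rintro _ ⟨d, hd, rfl⟩
    rw [Subgroup.mem_centralizer_singleton_iff, QuotientGroup.mk'_apply, ← QuotientGroup.mk_mul,
      ← QuotientGroup.mk_mul, Subgroup.mem_centralizer_singleton_iff.1 (hD.1 hd)]
  · have hcom : (Subgroup.centralizer ({(g : H ⧸ Q)} : Set (H ⧸ Q))).comap (QuotientGroup.mk' Q) =
        Subgroup.centralizer ({g} : Set H) := by
      refine (Subgroup.eq_of_le_of_card_ge (fun c hc => ?_) ?_).symm
      · rw [Subgroup.mem_comap, Subgroup.mem_centralizer_singleton_iff, QuotientGroup.mk'_apply,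
          ← QuotientGroup.mk_mul, ← QuotientGroup.mk_mul, Subgroup.mem_centralizer_singleton_iff.1 hc]
      · have h := BlocksCharsC.SmallCent.index_centralizer_mk Q hQ hQc hreg
        rw [← Subgroup.index_comap_of_surjective _ (QuotientGroup.mk'_surjective Q)] at h
        set X := (Subgroup.centralizer ({(g : H ⧸ Q)} : Set (H ⧸ Q))).comap (QuotientGroup.mk' Q)
        set Y := Subgroup.centralizer ({g} : Set H)
        have h1 := Y.card_mul_index
        rw [← h, ← X.card_mul_index] at h1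
        exact le_of_eq (Nat.eq_of_mul_eq_mul_right
          (Nat.pos_of_ne_zero (Subgroup.index_ne_zero_of_finite (H := X))) h1).symm
    rw [← Subgroup.map_comap_eq_self_of_surjective (QuotientGroup.mk'_surjective Q)
      (Subgroup.centralizer ({(g : H ⧸ Q)} : Set (H ⧸ Q))), hcom, ← Subgroup.relIndex_comap]
    rw [Subgroup.comap_map_eq, QuotientGroup.ker_mk', sup_eq_left.2 hQD]
    exact hD.2.2

end CfsgLib.AbelianDefect
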