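import Cfsg.Agent.BlockPairing.Subsections
import Cfsg.Agent.Blocks.Idempotent
import Mathlib.Algebra.Order.Chebyshev

/-!
# The form of a block with the shape of a block of cyclic defect

If the members of `Y` agree with a signed sum over `X` on regular elements, the regular parts of
`X` are independent and `|X| * |Y| + 1 = p ^ a`, then `p ^ a` times the form on `X` is
`p ^ a ∑ x ^ 2 - |Y| (∑ ± x) ^ 2`, whose nonzero values are at least `|X|`.
-/

set_option autoImplicit false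
set_option linter.unusedSectionVars false
set_option linter.style.haveILetI false

namespace CfsgLib.AbelianDefect

open Cfsg CfsgLib.Blocks CfsgLib.BlockPairing
open scoped ComplexConjugate

universe u

/-- The shape of a block with a cyclic defect group of order `p ^ a`. -/
def HasCyclicShape {K : Type u} [Group K] (p : ℕ) (B : Set (IrrCharacter K)) (a : ℕ) : Prop :=
  ∃ (X Y : Set (IrrCharacter K)) (δ : IrrCharacter K → ℤ) (δ₀ : ℤ),
    B = X ∪ Y ∧ Disjoint X Y ∧ Nat.card X * Nat.card Y + 1 = p ^ a ∧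
    Cfsg.blockRank p B = Nat.card X ∧ (∀ χ ∈ X, δ χ = 1 ∨ δ χ = -1) ∧ (δ₀ = 1 ∨ δ₀ = -1) ∧
    ∀ ψ ∈ Y, ∀ g : K, ¬ p ∣ orderOf g →
      (δ₀ : ℂ) * (ψ : K → ℂ) g + ∑ᶠ χ ∈ X, (δ χ : ℂ) * (χ : K → ℂ) g = 0

/-- The quadratic form of a block of cyclic defect is at least the number of its indices. -/
theorem card_le_quad {ι : Type*} (X : Finset ι) (δ x : ι → ℤ) (m : ℕ) (hm : 1 ≤ m)
    (hδ : ∀ i ∈ X, δ i = 1 ∨ δ i = -1) (hx : ∃ i ∈ X, x i ≠ 0) :
    (X.card : ℤ) ≤ ((X.card * m + 1 : ℕ) : ℤ) * ∑ i ∈ X, x i ^ 2 -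
      (m : ℤ) * (∑ i ∈ X, δ i * x i) ^ 2 := by
  classical
  set S := X.filter fun i => x i ≠ 0
  have hS0 : (1 : ℤ) ≤ S.card := by
    obtain ⟨i, hi, hxi⟩ := hx
    exact_mod_cast Finset.card_pos.2 ⟨i, Finset.mem_filter.2 ⟨hi, hxi⟩⟩
  have hSe : (S.card : ℤ) ≤ X.card := by exact_mod_cast Finset.card_filter_le X _
  have hsq : ∀ i ∈ S, (1 : ℤ) ≤ x i ^ 2 := fun i hi => by
    have := (Finset.mem_filter.1 hi).2
    have h0 : (0 : ℤ) < x i ^ 2 := by positivity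
    omega
  have h1 : ∑ i ∈ X, x i ^ 2 = ∑ i ∈ S, x i ^ 2 :=
    (Finset.sum_subset (Finset.filter_subset _ X) fun i hi hn => by
      rw [show x i = 0 by simpa [S, hi] using hn]; ring).symm
  have h2 : ∑ i ∈ X, δ i * x i = ∑ i ∈ S, δ i * x i :=
    (Finset.sum_subset (Finset.filter_subset _ X) fun i hi hn => by
      rw [show x i = 0 by simpa [S, hi] using hn]; ring).symm
  have h3 : (∑ i ∈ S, δ i * x i) ^ 2 ≤ (S.card : ℤ) * ∑ i ∈ S, x i ^ 2 := by
    refine sq_sum_le_card_mul_sum_sq.trans_eq ?_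
    congr 1
    refine Finset.sum_congr rfl fun i hi => ?_
    rcases hδ i (Finset.mem_filter.1 hi).1 with h | h <;> rw [h] <;> ring
  have h4 : (S.card : ℤ) ≤ ∑ i ∈ S, x i ^ 2 := by
    simpa using Finset.card_nsmul_le_sum S (fun i => x i ^ 2) 1 hsq
  rw [h1, h2]
  push_cast
  have hm' : (1 : ℤ) ≤ m := by exact_mod_cast hm
  generalize (S.card : ℤ) = s at *
  generalize (X.card : ℤ) = e at *
  generalize ∑ i ∈ S, x i ^ 2 = N at *
  generalize ∑ i ∈ S, δ i * x i = L at *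
  have h5 : (m : ℤ) * L ^ 2 ≤ m * (s * N) := mul_le_mul_of_nonneg_left h3 (by omega)
  have h6 : 0 ≤ (e - s) * (m * s - 1) := mul_nonneg (by omega) (by nlinarith)
  have h7 : 0 ≤ (e * m + 1 - m * s) * (N - s) := mul_nonneg (by nlinarith) (by omega)
  nlinarith

variable {K : Type u} [Group K] [Fintype K] {M : Ideal AlgInt} [M.IsPrime] {p : ℕ}
  [hp : Fact p.Prime]

open Classical in
/-- The squared length of an integral combination of the members of `X` on regular elements. -/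
theorem regInner_shape (hM : Cfsg.IsPModular p M) {B : Set (IrrCharacter K)}
    (hB : Cfsg.IsPBlock M B) {X Y : Set (IrrCharacter K)} (δ : IrrCharacter K → ℤ) (δ₀ : ℤ)
    (hXY : B = X ∪ Y) (hdis : Disjoint X Y) (hrank : Cfsg.blockRank p B = Nat.card X)
    (hδ : ∀ χ ∈ X, δ χ = 1 ∨ δ χ = -1) (hδ₀ : δ₀ = 1 ∨ δ₀ = -1)
    (hrel : ∀ ψ ∈ Y, ∀ g : K, ¬ p ∣ orderOf g →
      (δ₀ : ℂ) * (ψ : K → ℂ) g + ∑ᶠ χ ∈ X, (δ χ : ℂ) * (χ : K → ℂ) g = 0)
    (x : IrrCharacter K → ℤ) :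
    let f : K → ℂ := fun g => ∑ χ ∈ X.toFinset, (x χ : ℂ) * (χ : K → ℂ) g
    ((X.toFinset.card * Y.toFinset.card + 1 : ℕ) : ℂ) * regInner p f f =
      ((((X.toFinset.card * Y.toFinset.card + 1 : ℕ) : ℤ) * ∑ χ ∈ X.toFinset, x χ ^ 2 -
        (Y.toFinset.card : ℤ) * (∑ χ ∈ X.toFinset, δ χ * x χ) ^ 2 : ℤ) : ℂ) := by
  intro f
  set Xf := X.toFinset
  set Yf := Y.toFinset
  have hYexp : ∀ ψ ∈ Yf, ∀ g : K, ¬ p ∣ orderOf g →
      (ψ : K → ℂ) g = ∑ χ ∈ Xf, (((-(δ₀ * δ χ)) : ℤ) : ℂ) * (χ : K → ℂ) g := by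
    intro ψ hψ g hg
    have h := hrel ψ (Set.mem_toFinset.1 hψ) g hg
    rw [finsum_mem_eq_toFinset_sum] at h
    have h0 : (δ₀ : ℂ) * δ₀ = 1 := by rcases hδ₀ with h' | h' <;> simp [h']
    calc (ψ : K → ℂ) g = (δ₀ : ℂ) * ((δ₀ : ℂ) * (ψ : K → ℂ) g) := by rw [← mul_assoc, h0, one_mul]
      _ = (δ₀ : ℂ) * (- ∑ χ ∈ Xf, (δ χ : ℂ) * (χ : K → ℂ) g) := by
        rw [eq_neg_of_add_eq_zero_left h]
      _ = _ := by
        rw [mul_neg, Finset.mul_sum, ← Finset.sum_neg_distrib]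
        exact Finset.sum_congr rfl fun χ _ => by push_cast; ring
  let ρ : X → K → ℂ := fun χ => Cfsg.pRegularPart p ((χ : IrrCharacter K) : K → ℂ)
  have hli : LinearIndependent ℂ ρ := by
    rw [linearIndependent_iff_card_le_finrank_span, ← Nat.card_eq_fintype_card, ← hrank,
      Cfsg.blockRank, Set.finrank]
    refine Submodule.finrank_mono (Submodule.span_le.2 ?_)
    rintro _ ⟨χ, hχ, rfl⟩
    rw [hXY] at hχ
    rcases hχ with hχ | hχ
    · exact Submodule.subset_span ⟨⟨χ, hχ⟩, rfl⟩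
    · have he : Cfsg.pRegularPart p (χ : K → ℂ) = ∑ φ ∈ Xf,
          (((-(δ₀ * δ φ)) : ℤ) : ℂ) • Cfsg.pRegularPart p (φ : K → ℂ) := by
        funext g
        rw [Finset.sum_apply]
        by_cases hg : p ∣ orderOf g
        · simp [pRegularPart_apply, hg]
        · simp only [Pi.smul_apply, smul_eq_mul, pRegularPart_apply, if_neg hg]
          exact hYexp χ (Set.mem_toFinset.2 hχ) g hg
      rw [SetLike.mem_coe]
      show Cfsg.pRegularPart p (χ : K → ℂ) ∈ _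
      rw [he]
      exact Submodule.sum_mem _ fun φ hφ => Submodule.smul_mem _ _
        (Submodule.subset_span ⟨⟨φ, Set.mem_toFinset.1 hφ⟩, rfl⟩)
  set y : IrrCharacter K → ℂ := fun φ => regInner p f φ with hy
  set s : ℂ := ∑ χ ∈ Xf, (δ χ : ℂ) * y χ with hs
  have hyY : ∀ ψ ∈ Yf, y ψ = -(δ₀ : ℂ) * s := by
    intro ψ hψ
    simp only [hy, hs, regInner, Finset.mul_sum]
    rw [Finset.sum_comm]
    refine Finset.sum_congr rfl fun g _ => ?_
    split_ifs with hg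
    · simp
    · rw [hYexp ψ hψ g hg, map_sum, Finset.mul_sum, Finset.mul_sum]
      exact Finset.sum_congr rfl fun χ _ => by rw [map_mul, map_intCast]; push_cast; ring
  have hfc : Cfsg.IsClassFunction K f := fun g c =>
    Finset.sum_congr rfl fun χ _ => by rw [Characters.isClassFunction_of_isIrr χ.2]
  have hcl : ∀ ξ : IrrCharacter K,
      Cfsg.classInner f (ξ : K → ℂ) = if ξ ∈ Xf then (x ξ : ℂ) else 0 := by
    intro ξ
    have : f = ∑ χ : IrrCharacter K, (if χ ∈ Xf then (x χ : ℂ) else 0) • (χ : K → ℂ) := by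
      funext g
      simp only [f, Xf, Finset.sum_apply, Pi.smul_apply, smul_eq_mul, ite_mul, zero_mul,
        Finset.sum_ite_mem, Finset.univ_inter]
    rw [this, Characters.classInner_irr_coeff]
  have hmemB : ∀ ξ : IrrCharacter K, ξ ∈ B ↔ ξ ∈ Xf ∪ Yf := fun ξ => by
    simp [hXY, Xf, Yf]
  have hdj : Disjoint Xf Yf := Set.disjoint_toFinset.2 hdis
  -- the projection identity, written on the regular parts of `X`
  have hid : ∑ χ : X, ((x χ : ℂ) - y χ - (Yf.card : ℂ) * s * (δ χ : ℂ)) • ρ χ = 0 := by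
    funext g
    rw [Finset.sum_apply, Pi.zero_apply]
    by_cases hg : p ∣ orderOf g
    · simp [ρ, pRegularPart_apply, hg]
    simp only [Pi.smul_apply, smul_eq_mul, ρ, pRegularPart_apply, if_neg hg]
    rw [← Finset.sum_subtype Xf (fun χ => Set.mem_toFinset)
      (fun χ => ((x χ : ℂ) - y χ - (Yf.card : ℂ) * s * (δ χ : ℂ)) * (χ : K → ℂ) g)]
    have h := sum_union_regInner_mul hM (isBlockUnion_of_isPBlock hB) hfc hg
    simp only [hmemB, ← Finset.sum_filter, Finset.filter_mem_eq_inter, Finset.univ_inter,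
      Finset.sum_union hdj, hcl] at h
    have hz : ∑ ξ ∈ Yf, (if ξ ∈ Xf then (x ξ : ℂ) else 0) * (ξ : K → ℂ) g = 0 :=
      Finset.sum_eq_zero fun ξ hξ => by
        rw [if_neg fun hξ' => Finset.disjoint_left.1 hdj hξ' hξ, zero_mul]
    rw [hz, add_zero, Finset.sum_congr rfl (fun (ξ : IrrCharacter K) (hξ : ξ ∈ Xf) =>
      show (if ξ ∈ Xf then (x ξ : ℂ) else 0) * (ξ : K → ℂ) g = (x ξ : ℂ) * (ξ : K → ℂ) g by
        rw [if_pos hξ])] at h
    have hY : ∑ ψ ∈ Yf, y ψ * (ψ : K → ℂ) g =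
        (Yf.card : ℂ) * (s * ∑ χ ∈ Xf, (δ χ : ℂ) * (χ : K → ℂ) g) := by
      rw [← nsmul_eq_mul, ← Finset.sum_const]
      refine Finset.sum_congr rfl fun ψ hψ => ?_
      have h0 : (δ₀ : ℂ) * δ₀ = 1 := by rcases hδ₀ with h' | h' <;> simp [h']
      have he : (∑ χ ∈ Xf, (((-(δ₀ * δ χ)) : ℤ) : ℂ) * (χ : K → ℂ) g) =
          -(δ₀ : ℂ) * ∑ χ ∈ Xf, (δ χ : ℂ) * (χ : K → ℂ) g := by
        rw [Finset.mul_sum]
        exact Finset.sum_congr rfl fun χ _ => by push_cast; ring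
      rw [hyY ψ hψ, hYexp ψ hψ g hg, he]
      linear_combination (s * ∑ χ ∈ Xf, (δ χ : ℂ) * (χ : K → ℂ) g) * h0
    simp only [sub_mul, Finset.sum_sub_distrib, ← h]
    rw [show ∑ ψ ∈ Yf, regInner p f ψ * (ψ : K → ℂ) g =
      ∑ ψ ∈ Yf, y ψ * (ψ : K → ℂ) g from rfl, hY, Finset.mul_sum, Finset.mul_sum]
    simp only [hy, mul_assoc]
    ring
  have hcoef : ∀ χ ∈ Xf, y χ = (x χ : ℂ) - (Yf.card : ℂ) * s * (δ χ : ℂ) := by
    intro χ hχ
    have := (Fintype.linearIndependent_iff.1 hli) _ hid ⟨χ, Set.mem_toFinset.1 hχ⟩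
    linear_combination -this
  have hδδ : ∀ χ ∈ Xf, (δ χ : ℂ) * δ χ = 1 := fun χ hχ => by
    rcases hδ χ (Set.mem_toFinset.1 hχ) with h | h <;> simp [h]
  have hsum : ((Xf.card : ℂ) * Yf.card + 1) * s = ∑ χ ∈ Xf, (δ χ : ℂ) * (x χ : ℂ) := by
    have : s = ∑ χ ∈ Xf, ((δ χ : ℂ) * (x χ : ℂ) - (Yf.card : ℂ) * s) :=
      hs.trans (Finset.sum_congr rfl fun χ hχ => by
        rw [hcoef χ hχ]
        linear_combination (-((Yf.card : ℂ) * s)) * hδδ χ hχ)
    rw [Finset.sum_sub_distrib, Finset.sum_const, nsmul_eq_mul] at this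
    linear_combination this
  have hff : regInner p f f = ∑ χ ∈ Xf, (x χ : ℂ) * y χ := by
    simp only [hy, regInner, Finset.mul_sum]
    rw [Finset.sum_comm]
    refine Finset.sum_congr rfl fun g _ => ?_
    split_ifs with hg
    · simp
    · show _ * (f g * conj (∑ χ ∈ Xf, (x χ : ℂ) * (χ : K → ℂ) g)) = _
      rw [map_sum, Finset.mul_sum, Finset.mul_sum]
      exact Finset.sum_congr rfl fun χ _ => by rw [map_mul, map_intCast]; ring
  rw [hff, Finset.sum_congr rfl fun χ hχ =>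
    show (x χ : ℂ) * y χ = (x χ : ℂ) ^ 2 - (Yf.card : ℂ) * s * ((δ χ : ℂ) * (x χ : ℂ)) by
      rw [hcoef χ hχ]; ring]
  rw [Finset.sum_sub_distrib, ← Finset.mul_sum]
  push_cast
  rw [← hsum]
  ring

open Classical in
/-- The nonzero values of the form of a block of cyclic shape are at least its rank. -/
theorem rank_le_regInner (hM : Cfsg.IsPModular p M) {B : Set (IrrCharacter K)}
    (hB : Cfsg.IsPBlock M B) {a : ℕ} (ha : 1 ≤ a) (hsh : HasCyclicShape p B a)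
    (c : IrrCharacter K → ℤ) :
    ∃ q : ℤ, (q = 0 ∨ (Cfsg.blockRank p B : ℤ) ≤ q) ∧
      ((p ^ a : ℕ) : ℂ) *
        regInner p (fun g => ∑ χ : IrrCharacter K, if χ ∈ B then (c χ : ℂ) * (χ : K → ℂ) g else 0)
          (fun g => ∑ χ : IrrCharacter K, if χ ∈ B then (c χ : ℂ) * (χ : K → ℂ) g else 0) =
        (q : ℂ) := by
  obtain ⟨X, Y, δ, δ₀, hXY, hdis, hcard, hrank, hδ, hδ₀, hrel⟩ := hsh
  set x : IrrCharacter K → ℤ := fun χ => c χ + ∑ ψ ∈ Y.toFinset, c ψ * (-(δ₀ * δ χ)) with hx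
  have hcard' : X.toFinset.card * Y.toFinset.card + 1 = p ^ a := by
    rw [← hcard, Set.toFinset_card, Set.toFinset_card, Nat.card_eq_fintype_card,
      Nat.card_eq_fintype_card]
  refine ⟨((X.toFinset.card * Y.toFinset.card + 1 : ℕ) : ℤ) * ∑ χ ∈ X.toFinset, x χ ^ 2 -
      (Y.toFinset.card : ℤ) * (∑ χ ∈ X.toFinset, δ χ * x χ) ^ 2, ?_, ?_⟩
  · by_cases h : ∃ χ ∈ X.toFinset, x χ ≠ 0
    · refine Or.inr ?_
      rw [hrank, Nat.card_eq_fintype_card, ← Set.toFinset_card]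
      refine card_le_quad _ δ x _ ?_ (fun χ hχ => hδ χ (Set.mem_toFinset.1 hχ)) h
      by_contra hm
      rw [show Y.toFinset.card = 0 by omega, mul_zero, zero_add] at hcard'
      exact (Nat.one_lt_pow (by omega) hp.out.one_lt).ne hcard'
    · push Not at h
      refine Or.inl ?_
      rw [Finset.sum_eq_zero fun χ hχ => by rw [h χ hχ]; ring,
        Finset.sum_eq_zero fun χ hχ => by rw [h χ hχ]; ring]
      ring
  · rw [← regInner_shape hM hB δ δ₀ hXY hdis hrank hδ hδ₀ hrel x, hcard']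
    congr 1
    simp only [regInner]
    congr 1
    refine Finset.sum_congr rfl fun g _ => ?_
    by_cases hg : p ∣ orderOf g
    · simp [hg]
    simp only [if_neg hg]
    have hdj : Disjoint X.toFinset Y.toFinset := Set.disjoint_toFinset.2 hdis
    have he : (∑ χ : IrrCharacter K, if χ ∈ B then (c χ : ℂ) * (χ : K → ℂ) g else 0) =
        ∑ χ ∈ X.toFinset, (x χ : ℂ) * (χ : K → ℂ) g := by
      rw [← Finset.sum_filter, show Finset.univ.filter (· ∈ B) = X.toFinset ∪ Y.toFinset by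
        ext; simp [hXY], Finset.sum_union hdj]
      have hY : ∀ ψ ∈ Y.toFinset, (c ψ : ℂ) * (ψ : K → ℂ) g =
          ∑ χ ∈ X.toFinset, ((c ψ * (-(δ₀ * δ χ)) : ℤ) : ℂ) * (χ : K → ℂ) g := by
        intro ψ hψ
        have h := hrel ψ (Set.mem_toFinset.1 hψ) g hg
        rw [finsum_mem_eq_toFinset_sum] at h
        have h0 : (δ₀ : ℂ) * δ₀ = 1 := by rcases hδ₀ with h' | h' <;> simp [h']
        rw [Finset.sum_congr rfl fun χ _ => show ((c ψ * (-(δ₀ * δ χ)) : ℤ) : ℂ) * (χ : K → ℂ) g =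
          (-(c ψ : ℂ) * δ₀) * ((δ χ : ℂ) * (χ : K → ℂ) g) by push_cast; ring, ← Finset.mul_sum]
        linear_combination ((c ψ : ℂ) * δ₀) * h - ((c ψ : ℂ) * (ψ : K → ℂ) g) * h0
      rw [Finset.sum_congr rfl hY, Finset.sum_comm, ← Finset.sum_add_distrib]
      exact Finset.sum_congr rfl fun χ _ => by
        simp only [hx]; push_cast; rw [add_mul, Finset.sum_mul]
    rw [he]

end CfsgLib.AbelianDefect
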