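import Cfsg.Agent.AbelianDefect.RankTwo
import Cfsg.Agent.S4733

/-!
# The number of characters for abelian defect groups of rank at most three

Both bounds are reduced to the shape of the blocks with cyclic defect groups.
-/

set_option autoImplicit false
set_option linter.unusedSectionVars false
set_option linter.style.haveILetI false

namespace CfsgLib.AbelianDefect

open Cfsg CfsgLib.Blocks

universe u

variable {G : Type u} [Group G] [Fintype G] {M : Ideal AlgInt} [M.IsPrime] {p : ℕ}
  [hp : Fact p.Prime] {B : Set (IrrCharacter G)}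

theorem card_eq_one_of_rank_eq_zero {D : Subgroup G} (h : Group.rank D = 0) : Nat.card D = 1 := by
  haveI := Group.rank_eq_zero_iff.1 h
  exact Nat.card_of_subsingleton 1

theorem isCyclic_of_rank_le_one {D : Subgroup G} (h : Group.rank D ≤ 1) : IsCyclic D := by
  classical
  obtain ⟨S, hS, hgen⟩ := Group.rank_spec D
  rcases Nat.le_one_iff_eq_zero_or_eq_one.1 (hS.trans_le h) with h0 | h1
  · rw [Finset.card_eq_zero.1 h0, Finset.coe_empty, Subgroup.closure_empty] at hgen
    haveI : Subsingleton D := Subgroup.subsingleton_iff.1 (subsingleton_of_bot_eq_top hgen)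
    infer_instance
  · obtain ⟨s, rfl⟩ := Finset.card_eq_one.1 h1
    rw [Finset.coe_singleton, ← Subgroup.zpowers_eq_closure] at hgen
    exact ⟨s, fun x => hgen.ge (Subgroup.mem_top x)⟩

/-- An abelian defect group of rank at most two gives `k ≤ p ^ d`. -/
theorem card_le_of_rank_le_two
    (cyc : ∀ (K : Type u) [Group K] [Fintype K] (B' : Set (IrrCharacter K)),
      Cfsg.IsPBlock M B' → ∀ E, Cfsg.IsDefectGroup p M B' E → IsCyclic E → ∀ a, 1 ≤ a →
        Nat.card E = p ^ a → HasCyclicShape p B' a)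
    (hM : Cfsg.IsPModular p M) (hB : Cfsg.IsPBlock M B) {D : Subgroup G}
    (hD : Cfsg.IsDefectGroup p M B D) (hcomm : ∀ x ∈ D, ∀ y ∈ D, x * y = y * x)
    (hr : Group.rank D ≤ 2) : Nat.card B ≤ p ^ Cfsg.blockDefect p B := by
  classical
  have hDcard := card_defectGroup hM hB hD
  by_cases hne : D = ⊥
  · subst hne
    rw [Subgroup.card_bot] at hDcard
    have h0 : Cfsg.blockDefect p B = 0 :=
      Nat.pow_right_injective hp.out.two_le (hDcard.symm.trans (pow_zero p).symm)
    rw [((Cfsg.Agent.S4733.result p M hM B hB).2.1.1 h0).1, h0, pow_zero]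
  obtain ⟨z, k, hk, -, b, hind, hd, Bq, hBq, himg, hlq, E, hE, -, hrE, hcE⟩ :=
    exists_reduction hM hB hD hcomm hne
  haveI := Fintype.ofFinite ↥(Subgroup.centralizer ({z} : Set G))
  haveI := Fintype.ofFinite (↥(Subgroup.centralizer ({z} : Set G)) ⧸ cycC z)
  have hEcard := card_defectGroup hM hBq hE
  set a := Cfsg.blockDefect p Bq
  have hka : k + a = Cfsg.blockDefect p B := Nat.pow_right_injective hp.out.two_le
    (show p ^ (k + a) = p ^ Cfsg.blockDefect p B by rw [← hDcard, ← hcE, hEcard, pow_add, mul_comm])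
  rcases Nat.eq_zero_or_pos a with ha | ha
  · have h1 := card_le_defect_mul_rank hM ⟨k, hk⟩ hind hd
    have h2 := hlq.trans_eq ((Cfsg.Agent.S4733.result p M hM Bq hBq).2.1.1 ha).1
    exact h1.trans ((Nat.mul_le_mul_left _ h2).trans_eq (mul_one _))
  · exact card_le_of_cyclicShape hM hk hind hd hBq himg ha hka
      (cyc _ Bq hBq E hE (isCyclic_of_rank_le_one (by omega)) a ha hEcard)

/-- An abelian defect group of rank at most three gives `k ^ 3 ≤ p ^ (5 * d)`. -/
theorem card_cube_le_of_rank_le_three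
    (cyc : ∀ (K : Type u) [Group K] [Fintype K] (B' : Set (IrrCharacter K)),
      Cfsg.IsPBlock M B' → ∀ E, Cfsg.IsDefectGroup p M B' E → IsCyclic E → ∀ a, 1 ≤ a →
        Nat.card E = p ^ a → HasCyclicShape p B' a)
    (hM : Cfsg.IsPModular p M) (hB : Cfsg.IsPBlock M B) {D : Subgroup G}
    (hD : Cfsg.IsDefectGroup p M B D) (hcomm : ∀ x ∈ D, ∀ y ∈ D, x * y = y * x)
    (hr : Group.rank D ≤ 3) : Nat.card B ^ 3 ≤ p ^ (5 * Cfsg.blockDefect p B) := by
  classical
  have hDcard := card_defectGroup hM hB hD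
  by_cases hne : D = ⊥
  · subst hne
    rw [Subgroup.card_bot] at hDcard
    have h0 : Cfsg.blockDefect p B = 0 :=
      Nat.pow_right_injective hp.out.two_le (hDcard.symm.trans (pow_zero p).symm)
    rw [((Cfsg.Agent.S4733.result p M hM B hB).2.1.1 h0).1, h0]
    simp
  obtain ⟨z, k, hk, hle, b, hind, hd, Bq, hBq, himg, hlq, E, hE, hcommE, hrE, hcE⟩ :=
    exists_reduction hM hB hD hcomm hne
  haveI := Fintype.ofFinite ↥(Subgroup.centralizer ({z} : Set G))
  haveI := Fintype.ofFinite (↥(Subgroup.centralizer ({z} : Set G)) ⧸ cycC z)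
  have hEcard := card_defectGroup hM hBq hE
  have h1 := card_le_defect_mul_rank hM ⟨k, hk⟩ hind hd
  have h2 := card_le_of_rank_le_two cyc hM hBq hE hcommE (by omega)
  set a := Cfsg.blockDefect p Bq
  set d := Cfsg.blockDefect p B
  have hka : k + a = d := Nat.pow_right_injective hp.out.two_le
    (show p ^ (k + a) = p ^ d by rw [← hDcard, ← hcE, hEcard, pow_add, mul_comm])
  have hd3 : d ≤ 3 * k := by
    have h := hle.trans (Nat.pow_le_pow_right (pow_pos hp.out.pos k) hr)
    rw [hDcard, ← pow_mul] at h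
    have := (Nat.pow_le_pow_iff_right hp.out.one_lt).1 h
    omega
  calc Nat.card B ^ 3 ≤ (p ^ d * p ^ a) ^ 3 :=
        Nat.pow_le_pow_left (h1.trans (Nat.mul_le_mul_left _ (hlq.trans h2))) 3
    _ = p ^ ((d + a) * 3) := by rw [← pow_add, ← pow_mul]
    _ ≤ p ^ (5 * d) := Nat.pow_le_pow_right hp.out.pos (by omega)

end CfsgLib.AbelianDefect
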