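import Cfsg.Agent.BlockPairing.MajorBound
import Cfsg.Agent.BlockPairing.DefectOne
import Cfsg.Agent.BlocksLocal.BrauerFeit

/-!
# The number of characters of a block with a major subsection

If the nonzero values of the integral form of a major subsection are at least `c`, then
`k * c ≤ p ^ d * l`; in particular `k ≤ p ^ d * l`.
-/

set_option autoImplicit false
set_option linter.unusedSectionVars false
set_option linter.style.haveILetI false

namespace CfsgLib.AbelianDefect

open Cfsg CfsgLib.Blocks CfsgLib.BlockPairing CfsgLib.CycloAverage CfsgLib.MajorSubsection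
open scoped ComplexConjugate

universe u

variable {G : Type u} [Group G] [Fintype G] {M : Ideal AlgInt} [M.IsPrime] {p : ℕ}
  [hp : Fact p.Prime] {z : G} {B : Set (IrrCharacter G)}
  {b : Set (IrrCharacter ↥(Subgroup.centralizer ({z} : Set G)))}
  [Fintype ↥(Subgroup.centralizer ({z} : Set G))]

open Classical in
theorem card_mul_le_of_form (hM : Cfsg.IsPModular p M) (hz : ∃ k, orderOf z = p ^ k)
    (hind : Cfsg.IsInducedBlock M (Subgroup.centralizer ({z} : Set G)) b B)
    (hd : Cfsg.blockDefect p b = Cfsg.blockDefect p B) (c : ℕ)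
    (hc : ∀ D : Data M p z B b, D.d = Cfsg.blockDefect p b →
      ∀ w, form D.C w w = 0 ∨ (c : ℤ) ≤ form D.C w w) :
    Nat.card B * c ≤ p ^ Cfsg.blockDefect p B * Cfsg.blockRank p b := by
  obtain ⟨D, hD⟩ := exists_data (M := M) (B := B) hz hd
  have hB := hind.2.1
  obtain ⟨ξ, -, -, -, hK⟩ := D.exists_base hM hind (hD.trans hd.symm)
  obtain ⟨χ₀, hχ₀, h0⟩ := Blocks.exists_height_zero (p := p) hM hB
  have hb1 : ∀ χ ∈ B.toFinset, ((p : ℤ) - 1) * (c : ℤ) ≤ D.avg D.C χ := by
    intro χ hχ
    refine le_sum_tau_form hp.out D.isRoot _ D.C_symm D.form_nonneg c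
      (hc D (hD.trans hd.symm)) _ _ D.j_lt ?_
    refine ⟨ξ, ?_⟩
    have := D.Tu_ne_zero hM hind.1 hz hB hD hχ₀ h0 (hK χ₀ hχ₀ h0) (Set.mem_toFinset.1 hχ)
    rwa [D.Tu_single] at this
  have h2 := Finset.card_nsmul_le_sum _ _ _ hb1
  rw [D.sum_avg_C hM hz hind, nsmul_eq_mul, hD] at h2
  have hcard : Nat.card B = B.toFinset.card := by rw [Set.toFinset_card, Nat.card_eq_fintype_card]
  have hp1 : (0 : ℤ) < (p : ℤ) - 1 := by have := hp.out.two_le; omega
  rw [hcard]
  zify
  refine le_of_mul_le_mul_left ?_ hp1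
  rw [mul_left_comm] at h2
  exact h2

theorem card_le_defect_mul_rank (hM : Cfsg.IsPModular p M) (hz : ∃ k, orderOf z = p ^ k)
    (hind : Cfsg.IsInducedBlock M (Subgroup.centralizer ({z} : Set G)) b B)
    (hd : Cfsg.blockDefect p b = Cfsg.blockDefect p B) :
    Nat.card B ≤ p ^ Cfsg.blockDefect p B * Cfsg.blockRank p b := by
  have h := card_mul_le_of_form hM hz hind hd 1 fun D _ w => by
    have := D.form_nonneg w
    omega
  rwa [mul_one] at h

end CfsgLib.AbelianDefect
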