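import Cfsg.Agent.AbelianDefect.CentralQuotient
import Cfsg.Agent.BlockPairing.RegularInner

/-!
# Regular restrictions are integral combinations of characters trivial on a central `p`-subgroup

Composing a character with `g ↦ g ^ m`, where `m` picks the p-regular part, gives a generalized
character; it is trivial on the subgroup.
-/

set_option autoImplicit false
set_option linter.unusedSectionVars false
set_option linter.style.haveILetI false

namespace CfsgLib.AbelianDefect

open Cfsg CfsgLib.Blocks CfsgLib.BlockPairing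
open CfsgLib.BlocksLocal.CentralQuotient (kerPart)
open CfsgLib.Codegree (KerContains sum_coset_eq_zero)
open scoped ComplexConjugate

universe u

variable {p : ℕ} [hp : Fact p.Prime]

/-- An exponent that picks the p-regular part. -/
theorem exists_regular_exponent (G : Type u) [Group G] [Finite G] :
    ∃ m : ℕ, (∀ g : G, ¬ p ∣ orderOf (g ^ m)) ∧ (∀ g : G, ¬ p ∣ orderOf g → g ^ m = g) ∧
      (∀ g : G, (∃ k, orderOf g = p ^ k) → g ^ m = 1) ∧
      (∀ g : G, ∃ k, orderOf ((g ^ m)⁻¹ * g) ∣ p ^ k) := by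
  set N := Nat.card G
  set a := N.factorization p
  set n := N / p ^ a
  have hN : N ≠ 0 := Nat.card_pos.ne'
  have hcop : Nat.Coprime (p ^ a) n := Nat.Coprime.pow_left _ (Nat.coprime_ordCompl hp.out hN)
  have hmul : p ^ a * n = N := Nat.ordProj_mul_ordCompl_eq_self N p
  obtain ⟨m, hm0, hm1⟩ := Nat.chineseRemainder hcop 0 1
  have hdvd : p ^ a ∣ m := Nat.modEq_zero_iff_dvd.1 hm0
  have hord : ∀ g : G, orderOf g ∣ N := fun g => orderOf_dvd_natCard g
  have hfix : ∀ g : G, orderOf g ∣ n → g ^ m = g := fun g hg => by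
    conv_rhs => rw [← pow_one g]
    exact pow_eq_pow_iff_modEq.2 (hm1.of_dvd hg)
  refine ⟨m, fun g h => ?_, fun g hg => hfix g ?_, fun g hg => ?_, fun g => ⟨a, ?_⟩⟩
  · have h1 : orderOf (g ^ m) ∣ n := by
      obtain ⟨c, hc⟩ := hdvd
      rw [orderOf_dvd_iff_pow_eq_one, ← pow_mul, hc, mul_right_comm, hmul, pow_mul,
        orderOf_dvd_iff_pow_eq_one.1 (hord g), one_pow]
    exact Nat.not_dvd_ordCompl hp.out hN (h.trans h1)
  · exact (Nat.Coprime.pow_right a (hp.out.coprime_iff_not_dvd.2 hg).symm).dvd_of_dvd_mul_left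
      (hmul.symm ▸ hord g)
  · obtain ⟨k, hk⟩ := hg
    have h1 : k ≤ a := (hp.out.pow_dvd_iff_le_factorization hN).1 (hk ▸ hord g)
    exact orderOf_dvd_iff_pow_eq_one.1 (hk ▸ (pow_dvd_pow p h1).trans hdvd)
  · rw [orderOf_dvd_iff_pow_eq_one,
      ((Commute.pow_self g m).inv_left).mul_pow, inv_pow, ← pow_mul, mul_comm, pow_mul,
      hfix (g ^ p ^ a) (orderOf_dvd_iff_pow_eq_one.2 (by
        rw [← pow_mul, hmul, orderOf_dvd_iff_pow_eq_one.1 (hord g)])), inv_mul_cancel]

theorem isNilpotent_of_elementary {E : Type u} [Group E] [Finite E] {q : ℕ} (hq : q.Prime)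
    (hE : Cfsg.IsElementary q E) : Group.IsNilpotent E := by
  obtain ⟨x, hxc, -, k, hk⟩ := hE
  haveI : Fact q.Prime := ⟨hq⟩
  apply Group.of_quotient_center_nilpotent
  have hp' : IsPGroup q (E ⧸ Subgroup.center E) := by
    obtain ⟨j, -, hj⟩ := (Nat.dvd_prime_pow hq).1
      (hk ▸ Subgroup.index_dvd_of_le (Subgroup.zpowers_le.2 hxc))
    exact IsPGroup.of_card (n := j) (by rw [← Subgroup.index_eq_card, hj])
  exact hp'.isNilpotent

theorem isGen_comp_pow {G : Type u} [Group G] [Fintype G] {m : ℕ}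
    (hreg : ∀ g : G, ¬ p ∣ orderOf (g ^ m))
    (hsing : ∀ g : G, ∃ k, orderOf ((g ^ m)⁻¹ * g) ∣ p ^ k) {θ : G → ℂ}
    (hθ : Cfsg.IsGeneralizedCharacter G θ) :
    Cfsg.IsGeneralizedCharacter G (fun g => θ (g ^ m)) := by
  have hcf := Characters.isClassFunction_of_isGen hθ
  refine Characters.isGen_of_elementary (fun g h => ?_) fun E q hq hE => ?_
  · show θ ((h * g * h⁻¹) ^ m) = θ (g ^ m)
    rw [conj_pow, hcf]
  haveI := Fintype.ofFinite E
  haveI hnil := isNilpotent_of_elementary hq hE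
  obtain ⟨H, -, hmem, -⟩ := exists_regular_subgroup (p := p) hq hE
  obtain ⟨P⟩ : Nonempty (Sylow p E) := inferInstance
  haveI : (P : Subgroup E).Normal :=
    Group.isNilpotent_of_finite_tfae.out 0 3 rfl rfl |>.mp hnil p hp P
  have hP : ∀ e : E, (∃ k, orderOf e ∣ p ^ k) → e ∈ (P : Subgroup E) := by
    rintro e ⟨k, hk⟩
    obtain ⟨j, -, hj⟩ := (Nat.dvd_prime_pow hp.out).1 hk
    obtain ⟨P', hP'⟩ := (IsPGroup.of_card (n := j) (G := Subgroup.zpowers e)
      (by rw [Nat.card_zpowers, hj])).exists_le_sylow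
    haveI := Sylow.unique_of_normal P inferInstance
    rw [Subsingleton.elim P P']
    exact hP' (Subgroup.mem_zpowers e)
  have hq' : ∀ e : E, ((e ^ m : E) : E ⧸ (P : Subgroup E)) = (e : E ⧸ (P : Subgroup E)) := by
    intro e
    refine QuotientGroup.eq.2 (hP _ ?_)
    obtain ⟨k, hk⟩ := hsing (e : G)
    exact ⟨k, by rw [← Subgroup.orderOf_coe]; simpa using hk⟩
  have hH : ∀ e : E, e ^ m ∈ H := fun e => (hmem _).2 (by
    rw [← Subgroup.orderOf_coe, SubgroupClass.coe_pow]; exact hreg _)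
  have hmul : ∀ a b : E, (a * b) ^ m = a ^ m * b ^ m := by
    intro a b
    have h1 : (a ^ m * b ^ m)⁻¹ * (a * b) ^ m ∈ H :=
      H.mul_mem (H.inv_mem (H.mul_mem (hH a) (hH b))) (hH _)
    have h2 : (a ^ m * b ^ m)⁻¹ * (a * b) ^ m ∈ (P : Subgroup E) :=
      QuotientGroup.eq.1 (by rw [QuotientGroup.mk_mul, hq', hq', hq', QuotientGroup.mk_mul])
    obtain ⟨k, hk⟩ := IsPGroup.iff_orderOf.1 P.isPGroup' ⟨_, h2⟩
    rw [← Subgroup.orderOf_coe] at hk
    have hk0 : k = 0 := by
      by_contra h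
      exact (hmem _).1 h1 (hk ▸ dvd_pow_self p h)
    rw [hk0, pow_zero, orderOf_eq_one_iff] at hk
    exact (inv_mul_eq_one.1 hk).symm
  let π : E →* E :=
    { toFun := fun e => e ^ m
      map_one' := one_pow m
      map_mul' := hmul }
  have h := Characters.isGen_comp (E.subtype.comp π) hθ
  exact h

variable {H : Type u} [Group H] [Fintype H] {M : Ideal AlgInt} [M.IsPrime]
  (Q : Subgroup H) [Q.Normal] (hQ : IsPGroup p Q) (hQc : Q ≤ Subgroup.center H)
  {B : Set (IrrCharacter H)}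
include hQ hQc

open Classical in
/-- The regular restriction of a member of a block is an integral combination of the members
trivial on `Q`. -/
theorem exists_int_expansion (hM : Cfsg.IsPModular p M) (hB : Cfsg.IsPBlock M B)
    {η : IrrCharacter H} (hη : η ∈ B) :
    ∃ c : IrrCharacter H → ℤ, ∀ g : H, ¬ p ∣ orderOf g →
      (η : H → ℂ) g = ∑ ψ : IrrCharacter H,
        if ψ ∈ kerPart Q B then (c ψ : ℂ) * (ψ : H → ℂ) g else 0 := by
  haveI := Fintype.ofFinite Q
  obtain ⟨m, hreg, hfix, hone, hsing⟩ := exists_regular_exponent (p := p) H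
  set f : H → ℂ := fun g => (η : H → ℂ) (g ^ m) with hf
  have hgen : Cfsg.IsGeneralizedCharacter H f :=
    isGen_comp_pow hreg hsing (Characters.isGen_of_isIrr η.2)
  have hfc := Characters.isClassFunction_of_isGen hgen
  choose c hc using fun ψ : IrrCharacter H =>
    Characters.classInner_gen hgen (Characters.isGen_of_isIrr ψ.2)
  refine ⟨c, fun g hg => ?_⟩
  have hker : ∀ ψ : IrrCharacter H, ¬ KerContains ψ Q → Cfsg.classInner f (ψ : H → ℂ) = 0 := by
    intro ψ hψ
    have hshift : ∀ q : Q, (∑ y : H, f y * conj ((ψ : H → ℂ) (y * q))) =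
        ∑ y : H, f y * conj ((ψ : H → ℂ) y) := by
      intro q
      refine Fintype.sum_equiv (Equiv.mulRight (q : H)) _ _ fun y => ?_
      have hy : f (y * q) = f y := by
        simp only [hf]
        rw [(show Commute y (q : H) from Subgroup.mem_center_iff.1 (hQc q.2) y).mul_pow,
          hone (q : H) (by simpa [Subgroup.orderOf_coe] using IsPGroup.iff_orderOf.1 hQ q), mul_one]
      simp [hy]
    have h0 : (Nat.card Q : ℂ) * ∑ y : H, f y * conj ((ψ : H → ℂ) y) = 0 := by
      rw [Nat.card_eq_fintype_card, ← Finset.card_univ, ← nsmul_eq_mul, ← Finset.sum_const]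
      rw [Finset.sum_congr rfl fun q _ => (hshift q).symm, Finset.sum_comm]
      refine Finset.sum_eq_zero fun y _ => ?_
      rw [← Finset.mul_sum, ← map_sum, sum_coset_eq_zero ψ Q hψ, map_zero, mul_zero]
    rw [Cfsg.classInner, (mul_eq_zero.1 h0).resolve_left (Nat.cast_ne_zero.2 Nat.card_pos.ne'),
      mul_zero]
  have hvan : ∀ z : H, ¬ p ∣ orderOf z →
      ∑ ψ : IrrCharacter H, ((if ψ = η then 1 else 0) - Cfsg.classInner f (ψ : H → ℂ)) *
        (ψ : H → ℂ) z = 0 := by
    intro z hz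
    have h1 := congrFun (Characters.classFunction_expansion hfc) z
    simp only [Finset.sum_apply, Pi.smul_apply, smul_eq_mul] at h1
    simp only [sub_mul, Finset.sum_sub_distrib, ← h1, ite_mul, one_mul, zero_mul,
      Finset.sum_ite_eq', Finset.mem_univ, if_true]
    simp only [hf, hfix z hz, sub_self]
  have h := sum_union_eq_zero hM (isBlockUnion_of_isPBlock hB) _ hvan hg
  have h2 : ∑ ψ : IrrCharacter H, (if ψ ∈ B then
      ((if ψ = η then (1 : ℂ) else 0) - Cfsg.classInner f (ψ : H → ℂ)) * (ψ : H → ℂ) g else 0) =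
      (η : H → ℂ) g - ∑ ψ : IrrCharacter H,
        if ψ ∈ kerPart Q B then (c ψ : ℂ) * (ψ : H → ℂ) g else 0 := by
    rw [eq_sub_iff_add_eq, ← Finset.sum_add_distrib, Finset.sum_eq_single η]
    · rw [if_pos hη, if_pos rfl]
      by_cases hk : η ∈ kerPart Q B
      · rw [if_pos hk, ← hc]; ring
      · rw [if_neg hk, hker η fun h => hk ⟨hη, h⟩]; ring
    · intro ψ _ hne
      rw [if_neg hne]
      by_cases hk : ψ ∈ kerPart Q B
      · rw [if_pos hk.1, if_pos hk, ← hc]; ring
      · rw [if_neg hk]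
        by_cases hψ : ψ ∈ B
        · rw [if_pos hψ, hker ψ fun h => hk ⟨hψ, h⟩]; ring
        · rw [if_neg hψ, add_zero]
    · simp
  exact (sub_eq_zero.1 (h2.symm.trans h))

end CfsgLib.AbelianDefect
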