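import Mathlib.GroupTheory.Rank
import Mathlib.RingTheory.Coprime.Lemmas
import Mathlib.RingTheory.Int.Basic
import Mathlib.GroupTheory.PGroup
import Mathlib.GroupTheory.Exponent
import Mathlib.GroupTheory.QuotientGroup.Basic

/-!
# An element of largest order in an abelian `p`-group

If a finite abelian `p`-group is generated by `r` elements and `u` has largest order, then the
order is at most `orderOf u ^ r` and the quotient by `u` is generated by `r - 1` elements.
-/

set_option autoImplicit false

namespace CfsgLib.AbelianDefect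

universe u

variable {A : Type u} [CommGroup A] [Finite A]

theorem natCard_sup_le (X Y : Subgroup A) :
    Nat.card ↥(X ⊔ Y) ≤ Nat.card X * Nat.card Y := by
  let f : X × Y → ↥(X ⊔ Y) := fun z =>
    ⟨z.1 * z.2, Subgroup.mul_mem_sup z.1.2 z.2.2⟩
  have hf : Function.Surjective f := by
    rintro ⟨z, hz⟩
    obtain ⟨x, hx, y, hy, rfl⟩ := Subgroup.mem_sup.1 hz
    exact ⟨(⟨x, hx⟩, ⟨y, hy⟩), rfl⟩
  exact (Nat.card_le_card_of_surjective f hf).trans_eq (Nat.card_prod _ _)

theorem natCard_closure_le (m : ℕ) (S : Finset A) (h : ∀ s ∈ S, orderOf s ≤ m) :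
    Nat.card (Subgroup.closure (S : Set A)) ≤ m ^ S.card := by
  classical
  induction S using Finset.induction_on with
  | empty => rw [Finset.coe_empty, Subgroup.closure_empty]; simp
  | insert a T ha ih =>
    rw [Finset.coe_insert, Set.insert_eq, Subgroup.closure_union, ← Subgroup.zpowers_eq_closure,
      Finset.card_insert_of_notMem ha, pow_succ']
    refine (natCard_sup_le _ _).trans (Nat.mul_le_mul ?_ (ih fun s hs => h s (Finset.mem_insert_of_mem hs)))
    rw [Nat.card_zpowers]
    exact h a (Finset.mem_insert_self a T)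

variable {p : ℕ} [hp : Fact p.Prime] (hA : IsPGroup p A)
include hA

theorem eq_top_of_sup_range {L : Subgroup A} (h : L ⊔ (powMonoidHom p : A →* A).range = ⊤) :
    L = ⊤ := by
  have hsurj : Function.Surjective (powMonoidHom p : A ⧸ L →* A ⧸ L) := by
    intro x
    obtain ⟨a, rfl⟩ := QuotientGroup.mk_surjective x
    obtain ⟨l, hl, _, ⟨b, rfl⟩, rfl⟩ := Subgroup.mem_sup.1 (h.ge (Subgroup.mem_top a))
    refine ⟨(b : A ⧸ L), ?_⟩
    rw [powMonoidHom_apply, powMonoidHom_apply, QuotientGroup.mk_mul, QuotientGroup.mk_pow,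
      (QuotientGroup.eq_one_iff l).2 hl, one_mul]
  have hinj := Finite.injective_iff_surjective.2 hsurj
  rw [eq_top_iff]
  intro a _
  obtain ⟨k, hk⟩ := hA a
  have hk' : ((a : A ⧸ L)) ^ p ^ k = 1 := by rw [← QuotientGroup.mk_pow, hk, QuotientGroup.mk_one]
  have hz : ∀ (k : ℕ) (x : A ⧸ L), x ^ p ^ k = 1 → x = 1 := by
    intro k
    induction k with
    | zero => intro x hx; simpa using hx
    | succ k ih =>
      intro x hx
      refine hinj ?_
      rw [powMonoidHom_apply, powMonoidHom_apply, one_pow]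
      exact ih _ (by rw [← pow_mul, ← pow_succ']; exact hx)
  exact (QuotientGroup.eq_one_iff a).1 (hz k _ hk')

theorem not_mem_pow_range {u : A} (hu : u ≠ 1) (hmax : ∀ a : A, orderOf a ≤ orderOf u) :
    u ∉ (powMonoidHom p : A →* A).range := by
  rintro ⟨v, hv⟩
  rw [powMonoidHom_apply] at hv
  obtain ⟨k, hk⟩ := IsPGroup.iff_orderOf.1 hA v
  have h := hmax v
  rcases Nat.eq_zero_or_pos k with rfl | hk0
  · rw [pow_zero, orderOf_eq_one_iff] at hk
    rw [hk, one_pow] at hv
    exact hu hv.symm
  · rw [← hv, orderOf_pow, hk, Nat.gcd_eq_right (dvd_pow_self p hk0.ne')] at h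
    exact absurd h (not_le.2 (Nat.div_lt_self (pow_pos hp.out.pos k) hp.out.one_lt))

open Classical in
theorem exists_exchange {u : A} (hu : u ∉ (powMonoidHom p : A →* A).range) :
    ∀ T : Finset A, u ∈ Subgroup.closure (T : Set A) ⊔ (powMonoidHom p : A →* A).range →
      ∃ t ∈ T, t ∈ Subgroup.zpowers u ⊔ Subgroup.closure ((T.erase t : Finset A) : Set A) ⊔
        (powMonoidHom p : A →* A).range := by
  intro T
  induction T using Finset.induction_on with
  | empty =>
    intro h
    rw [Finset.coe_empty, Subgroup.closure_empty, bot_sup_eq] at h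
    exact absurd h hu
  | insert s T' hs ih =>
    intro h
    set P := (powMonoidHom p : A →* A).range
    by_cases hW : u ∈ Subgroup.closure (T' : Set A) ⊔ P
    · obtain ⟨t, ht, ht'⟩ := ih hW
      refine ⟨t, Finset.mem_insert_of_mem ht, ?_⟩
      have hle : Subgroup.zpowers u ⊔ Subgroup.closure ((T'.erase t : Finset A) : Set A) ⊔ P ≤
          Subgroup.zpowers u ⊔ Subgroup.closure (((insert s T').erase t : Finset A) : Set A) ⊔ P :=
        sup_le_sup_right (sup_le_sup_left (Subgroup.closure_mono (Finset.coe_subset.2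
          (Finset.erase_subset_erase _ (Finset.subset_insert _ _)))) _) _
      exact hle ht'
    · refine ⟨s, Finset.mem_insert_self s T', ?_⟩
      rw [Finset.erase_insert hs]
      rw [Finset.coe_insert, Set.insert_eq, Subgroup.closure_union, ← Subgroup.zpowers_eq_closure,
        sup_assoc] at h
      obtain ⟨x, hx, w, hw, hxw⟩ := Subgroup.mem_sup.1 h
      obtain ⟨n, rfl⟩ := Subgroup.mem_zpowers_iff.1 hx
      have hn : ¬ (p : ℤ) ∣ n := by
        rintro ⟨k, rfl⟩
        refine hW (hxw ▸ Subgroup.mul_mem _ ?_ hw)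
        refine Subgroup.mem_sup_right ⟨s ^ k, ?_⟩
        rw [powMonoidHom_apply, mul_comm, zpow_mul, zpow_natCast]
      set L := Subgroup.zpowers u ⊔ Subgroup.closure (T' : Set A) ⊔ P
      have hsn : s ^ n ∈ L := by
        rw [show s ^ n = u * w⁻¹ from eq_mul_inv_of_mul_eq hxw]
        refine Subgroup.mul_mem _ (Subgroup.mem_sup_left (Subgroup.mem_sup_left
          (Subgroup.mem_zpowers u))) (Subgroup.inv_mem _ ?_)
        exact (show Subgroup.closure (T' : Set A) ⊔ P ≤ L from
          sup_le_sup_right le_sup_right _) hw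
      obtain ⟨k, hk⟩ := IsPGroup.iff_orderOf.1 hA s
      have hcop : IsCoprime n ((p ^ k : ℕ) : ℤ) := by
        rw [Nat.cast_pow]
        exact (((Nat.prime_iff_prime_int.1 hp.out).coprime_iff_not_dvd.2 hn).symm).pow_right
      obtain ⟨a, b, hab⟩ := hcop
      have he : s = (s ^ n) ^ a * (s ^ ((p ^ k : ℕ) : ℤ)) ^ b := by
        rw [← zpow_mul, ← zpow_mul, ← zpow_add, mul_comm n a, mul_comm _ b, hab, zpow_one]
      rw [he, zpow_natCast, ← hk, pow_orderOf_eq_one, one_zpow, mul_one]
      exact Subgroup.zpow_mem _ hsn a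

/-- An element of largest order replaces one generator. -/
theorem rank_quotient_le {u : A} (hu : u ≠ 1) (hmax : ∀ a : A, orderOf a ≤ orderOf u) :
    Group.rank (A ⧸ Subgroup.zpowers u) + 1 ≤ Group.rank A := by
  classical
  obtain ⟨S, hcard, hS⟩ := Group.rank_spec A
  have hu' := not_mem_pow_range hA hu hmax
  obtain ⟨t, ht, ht'⟩ := exists_exchange hA hu' S (by rw [hS, top_sup_eq]; trivial)
  have htop : Subgroup.zpowers u ⊔ Subgroup.closure ((S.erase t : Finset A) : Set A) = ⊤ := by
    refine eq_top_of_sup_range hA (eq_top_iff.2 ?_)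
    rw [← hS, Subgroup.closure_le]
    intro s hs
    rcases eq_or_ne s t with rfl | hne
    · exact ht'
    · exact Subgroup.mem_sup_left (Subgroup.mem_sup_right
        (Subgroup.subset_closure (Finset.mem_coe.2 (Finset.mem_erase.2 ⟨hne, hs⟩))))
  have hgen : Subgroup.closure (((S.erase t).image (QuotientGroup.mk' (Subgroup.zpowers u)) :
      Finset (A ⧸ Subgroup.zpowers u)) : Set (A ⧸ Subgroup.zpowers u)) = ⊤ := by
    rw [Finset.coe_image, ← MonoidHom.map_closure,
      ← Subgroup.map_top_of_surjective _ (QuotientGroup.mk'_surjective (Subgroup.zpowers u)),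
      ← htop, Subgroup.map_sup, QuotientGroup.map_mk'_self, bot_sup_eq]
  have h1 := (Group.rank_le hgen).trans Finset.card_image_le
  rw [Finset.card_erase_of_mem ht] at h1
  have : 0 < S.card := Finset.card_pos.2 ⟨t, ht⟩
  omega

omit hA in
theorem natCard_le_pow {u : A} (hmax : ∀ a : A, orderOf a ≤ orderOf u) :
    Nat.card A ≤ orderOf u ^ Group.rank A := by
  obtain ⟨S, hcard, hS⟩ := Group.rank_spec A
  have h := natCard_closure_le (orderOf u) S fun s _ => hmax s
  rwa [hS, Subgroup.card_top, hcard] at h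

end CfsgLib.AbelianDefect
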