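import Cfsg.Agent.AbelianDefect.CentralQuotient
import Cfsg.Agent.AbelianDefect.Rank
import Cfsg.Agent.BlocksLocal.MajorExists
import Cfsg.Agent.Blocks.InducedDefect

/-!
# Reduction of a block with abelian defect group

For `z` of largest order in the defect group some block of `C(z)` induces the block with the same
defect, and its block of `C(z) / ⟨z⟩` has an abelian defect group needing one generator fewer.
-/

set_option autoImplicit false
set_option linter.unusedSectionVars false
set_option linter.style.haveILetI false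

namespace CfsgLib.AbelianDefect

open Cfsg CfsgLib.Blocks
open CfsgLib.BlocksLocal.CentralQuotient (infl kerPart)

universe u

variable {G : Type u} [Group G]

/-- The element `z` inside its centralizer. -/
def selfC (z : G) : ↥(Subgroup.centralizer ({z} : Set G)) :=
  ⟨z, Subgroup.mem_centralizer_singleton_iff.2 rfl⟩

theorem selfC_mem_center (z : G) : selfC z ∈ Subgroup.center _ :=
  Subgroup.mem_center_iff.2 fun g => Subtype.ext (Subgroup.mem_centralizer_singleton_iff.1 g.2)

/-- The subgroup generated by `z` in its centralizer. -/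
def cycC (z : G) : Subgroup ↥(Subgroup.centralizer ({z} : Set G)) := Subgroup.zpowers (selfC z)

theorem cycC_le_center (z : G) : cycC z ≤ Subgroup.center _ :=
  Subgroup.zpowers_le.2 (selfC_mem_center z)

instance cycC_normal (z : G) : (cycC z).Normal :=
  ⟨fun n hn g => by
    rwa [Subgroup.mem_center_iff.1 (cycC_le_center z hn) g, mul_inv_cancel_right]⟩

theorem card_cycC (z : G) : Nat.card (cycC z) = orderOf z :=
  (Nat.card_zpowers (selfC z)).trans (Subgroup.orderOf_coe (selfC z)).symm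

theorem card_map_quotient {H : Type u} [Group H] [Finite H] (Q : Subgroup H) [Q.Normal]
    {E : Subgroup H} (hQE : Q ≤ E) :
    Nat.card (E.map (QuotientGroup.mk' Q)) * Nat.card Q = Nat.card E := by
  have h1 := Subgroup.relIndex_ker (QuotientGroup.mk' Q) (K := E)
  rw [QuotientGroup.ker_mk'] at h1
  rw [← h1, ← Subgroup.inf_relIndex_right, inf_eq_left.2 hQE, mul_comm]
  exact Subgroup.card_mul_index (Q.subgroupOf E) |>.symm.trans (by
    rw [Nat.card_congr (Subgroup.subgroupOfEquivOfLe hQE).toEquiv]; rfl) |>.symm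

theorem rank_map_quotient_le {p : ℕ} [Fact p.Prime] {H : Type u} [Group H] [Finite H] {z : H}
    [(Subgroup.zpowers z).Normal] (E : Subgroup H) (hE : IsPGroup p E)
    (hcomm : ∀ x ∈ E, ∀ y ∈ E, x * y = y * x) (hzE : z ∈ E) (hz : z ≠ 1)
    (hmax : ∀ x ∈ E, orderOf x ≤ orderOf z) :
    Group.rank (E.map (QuotientGroup.mk' (Subgroup.zpowers z))) + 1 ≤ Group.rank E := by
  letI : CommGroup E :=
    { (inferInstance : Group E) with
      mul_comm := fun a b => Subtype.ext (hcomm a a.2 b b.2) }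
  set u : E := ⟨z, hzE⟩
  have h := rank_quotient_le (p := p) hE (u := u) (fun h => hz (congrArg Subtype.val h))
    (fun x => by rw [← Subgroup.orderOf_coe x, ← Subgroup.orderOf_coe u]; exact hmax x x.2)
  let φ : E →* E.map (QuotientGroup.mk' (Subgroup.zpowers z)) :=
    (QuotientGroup.mk' (Subgroup.zpowers z)).subgroupMap E
  have hφ : Function.Surjective φ := MonoidHom.subgroupMap_surjective _ E
  have hu : φ u = 1 := Subtype.ext ((QuotientGroup.eq_one_iff z).2 (Subgroup.mem_zpowers z))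
  have hle : Subgroup.zpowers u ≤ φ.ker := Subgroup.zpowers_le.2 (MonoidHom.mem_ker.2 hu)
  let ψ : E ⧸ Subgroup.zpowers u →* E.map (QuotientGroup.mk' (Subgroup.zpowers z)) :=
    QuotientGroup.lift _ φ hle
  have hψ : Function.Surjective ψ := fun y => by
    obtain ⟨x, hx⟩ := hφ y
    exact ⟨(x : E ⧸ Subgroup.zpowers u), hx⟩
  exact (Nat.add_le_add_right (Group.rank_le_of_surjective ψ hψ) 1).trans h

theorem card_le_orderOf_pow {p : ℕ} [Fact p.Prime] {H : Type u} [Group H] [Finite H] {z : H}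
    (E : Subgroup H) (hcomm : ∀ x ∈ E, ∀ y ∈ E, x * y = y * x) (hzE : z ∈ E)
    (hmax : ∀ x ∈ E, orderOf x ≤ orderOf z) :
    Nat.card E ≤ orderOf z ^ Group.rank E := by
  letI : CommGroup E :=
    { (inferInstance : Group E) with
      mul_comm := fun a b => Subtype.ext (hcomm a a.2 b b.2) }
  have h := natCard_le_pow (u := (⟨z, hzE⟩ : E))
    (fun x => by rw [← Subgroup.orderOf_coe x, ← Subgroup.orderOf_coe]; exact hmax x x.2)
  rwa [← Subgroup.orderOf_coe] at h

variable [Fintype G] {M : Ideal AlgInt} [M.IsPrime] {p : ℕ} [hp : Fact p.Prime]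
  {B : Set (IrrCharacter G)}

/-- The major subsection at an element of largest order. -/
theorem exists_reduction (hM : Cfsg.IsPModular p M) (hB : Cfsg.IsPBlock M B) {D : Subgroup G}
    (hD : Cfsg.IsDefectGroup p M B D) (hcomm : ∀ x ∈ D, ∀ y ∈ D, x * y = y * x) (hne : D ≠ ⊥) :
    ∃ (z : G) (k : ℕ), orderOf z = p ^ k ∧ Nat.card D ≤ (p ^ k) ^ Group.rank D ∧
      ∃ b : Set (IrrCharacter ↥(Subgroup.centralizer ({z} : Set G))),
        Cfsg.IsInducedBlock M (Subgroup.centralizer ({z} : Set G)) b B ∧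
        Cfsg.blockDefect p b = Cfsg.blockDefect p B ∧
        ∃ Bq : Set (IrrCharacter (↥(Subgroup.centralizer ({z} : Set G)) ⧸ cycC z)),
          Cfsg.IsPBlock M Bq ∧ kerPart (cycC z) b = infl (cycC z) '' Bq ∧
          Cfsg.blockRank p b ≤ Nat.card Bq ∧
          ∃ E, Cfsg.IsDefectGroup p M Bq E ∧ (∀ x ∈ E, ∀ y ∈ E, x * y = y * x) ∧
            Group.rank E + 1 ≤ Group.rank D ∧ Nat.card E * p ^ k = Nat.card D := by
  classical
  haveI : Nontrivial D := (Subgroup.nontrivial_iff_ne_bot D).2 hne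
  obtain ⟨u, hu⟩ := Finite.exists_max fun x : D => orderOf x
  have hmax : ∀ x ∈ D, orderOf x ≤ orderOf (u : G) := fun x hx => by
    have := hu ⟨x, hx⟩
    rwa [← Subgroup.orderOf_coe, ← Subgroup.orderOf_coe] at this
  obtain ⟨k, hk⟩ := BlocksLocal.exists_pow_orderOf hD u.2
  set z : G := (u : G) with hz
  have hz1 : z ≠ 1 := by
    obtain ⟨x, hx⟩ := exists_ne (1 : D)
    intro h
    have h1 := hmax x x.2
    rw [h, orderOf_one] at h1
    exact hx (Subtype.ext (orderOf_eq_one_iff.1 (le_antisymm h1 (orderOf_pos _))))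
  refine ⟨z, k, hk, hk ▸ card_le_orderOf_pow (p := p) D hcomm u.2 hmax, ?_⟩
  haveI := Fintype.ofFinite ↥(Subgroup.centralizer ({z} : Set G))
  obtain ⟨b, hind, hd⟩ := BlocksLocal.exists_major hM hB hD u.2 fun w hw => hcomm _ u.2 w hw
  have hQ : IsPGroup p (cycC z) := IsPGroup.of_card (n := k) (by rw [card_cycC, hk])
  obtain ⟨Bq, hBq, himg, hrank, D', hD', hQD', hE⟩ :=
    exists_quotient_block (cycC z) hQ (cycC_le_center z) hM hind.1
  refine ⟨b, hind, hd, Bq, hBq, himg, hrank, _, hE, ?_⟩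
  -- `D'` is conjugate to `D`
  obtain ⟨E0, hE0, hle⟩ := IsDefectGroup.exists_le_of_induced hM hind hD'
  have hcard : Nat.card D' = Nat.card D := by
    rw [card_defectGroup hM hind.1 hD', hd, card_defectGroup hM hB hD]
  have heq : D'.map (Subgroup.centralizer ({z} : Set G)).subtype = E0 :=
    Subgroup.eq_of_le_of_card_ge hle (le_of_eq (by
      rw [Subgroup.card_map_of_injective (Subgroup.subtype_injective _), hcard,
        card_defectGroup hM hB hE0, card_defectGroup hM hB hD]))
  obtain ⟨x, hx⟩ := IsDefectGroup.exists_conj hM hB hD hE0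
  have hcomm' : ∀ a ∈ D', ∀ c ∈ D', a * c = c * a := by
    intro a ha c hc
    have ha' : (a : G) ∈ BlockPairs.cj x D := hx ▸ heq ▸ ⟨a, ha, rfl⟩
    have hc' : (c : G) ∈ BlockPairs.cj x D := hx ▸ heq ▸ ⟨c, hc, rfl⟩
    obtain ⟨a₀, ha₀, ea⟩ := ha'
    obtain ⟨c₀, hc₀, ec⟩ := hc'
    refine Subtype.ext ?_
    rw [Subgroup.coe_mul, Subgroup.coe_mul, ← ea, ← ec, ← map_mul, ← map_mul,
      hcomm a₀ ha₀ c₀ hc₀]
  have hmax' : ∀ a ∈ D', orderOf a ≤ orderOf (selfC z) := by
    intro a ha
    have ha' : (a : G) ∈ BlockPairs.cj x D := hx ▸ heq ▸ ⟨a, ha, rfl⟩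
    obtain ⟨a₀, ha₀, ea⟩ := ha'
    rw [← Subgroup.orderOf_coe a, ← Subgroup.orderOf_coe (selfC z), ← ea]
    exact (MulEquiv.orderOf_eq (MulAut.conj x) a₀).trans_le (hmax a₀ ha₀)
  refine ⟨?_, ?_, ?_⟩
  · rintro _ ⟨a, ha, rfl⟩ _ ⟨c, hc, rfl⟩
    rw [← map_mul, ← map_mul, hcomm' a ha c hc]
  · haveI : (Subgroup.zpowers (selfC z)).Normal := cycC_normal z
    have h := rank_map_quotient_le (p := p) (z := selfC z) D'
      (IsDefectGroup.isPGroup hD') hcomm' (hQD' (Subgroup.mem_zpowers _))
      (fun h => hz1 (congrArg Subtype.val h)) hmax'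
    refine le_trans h (le_of_eq ?_)
    exact Group.rank_congr ((Subgroup.equivMapOfInjective D' _ (Subgroup.subtype_injective _)).trans
      ((MulEquiv.subgroupCongr (heq.trans hx.symm)).trans
        (Subgroup.equivMapOfInjective D _ (MulAut.conj x).injective).symm))
  · rw [← hcard, ← hk, ← card_cycC, card_map_quotient _ hQD']

end CfsgLib.AbelianDefect
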