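import Cfsg.Agent.AbelianDefect.CyclicForm
import Cfsg.Agent.AbelianDefect.MajorCount
import Cfsg.Agent.AbelianDefect.PowerCharacter
import Cfsg.Agent.AbelianDefect.Reduction

/-!
# Abelian defect groups of rank at most three

If the block of the quotient has the shape of cyclic defect, the form of the major subsection
takes no nonzero value below the rank, so `k ≤ p ^ d`.
-/

set_option autoImplicit false
set_option linter.unusedSectionVars false
set_option linter.style.haveILetI false

namespace CfsgLib.AbelianDefect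

open Cfsg CfsgLib.Blocks CfsgLib.BlockPairing CfsgLib.MajorSubsection CfsgLib.CycloAverage
open CfsgLib.BlocksLocal.CentralQuotient (infl infl_injective kerPart)
open scoped ComplexConjugate

universe u

theorem regInner_sum_right {K : Type u} [Group K] [Fintype K] (p : ℕ) {ι : Type*} (s : Finset ι)
    (c : ι → ℂ) (f : K → ℂ) (h : ι → K → ℂ) :
    regInner p f (fun g => ∑ x ∈ s, c x * h x g) = ∑ x ∈ s, conj (c x) * regInner p f (h x) := by
  simp only [regInner, Finset.mul_sum]
  rw [Finset.sum_comm]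
  refine Finset.sum_congr rfl fun g _ => ?_
  split_ifs
  · simp
  · rw [map_sum, Finset.mul_sum, Finset.mul_sum]
    exact Finset.sum_congr rfl fun x _ => by rw [map_mul]; ring

variable {H : Type u} [Group H] [Fintype H] {M : Ideal AlgInt} [M.IsPrime] {p : ℕ}
  [hp : Fact p.Prime] (Q : Subgroup H) [Q.Normal]
  (hQ : IsPGroup p Q) (hQc : Q ≤ Subgroup.center H)
include hQ hQc

theorem regInner_quotient [Fintype (H ⧸ Q)] (f h : H ⧸ Q → ℂ) :
    (Nat.card Q : ℂ) * regInner p (fun g : H => f (g : H ⧸ Q)) (fun g : H => h (g : H ⧸ Q)) =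
      regInner p f h := by
  classical
  have hc : (Nat.card Q : ℂ) ≠ 0 := Nat.cast_ne_zero.2 Nat.card_pos.ne'
  simp only [regInner, ← ite_not (p := (p ∣ orderOf _)), ← Finset.sum_filter]
  rw [Subgroup.card_eq_card_quotient_mul_card_subgroup Q, Nat.cast_mul, mul_inv, ← mul_assoc,
    mul_comm ((Nat.card (H ⧸ Q) : ℂ))⁻¹, ← mul_assoc, mul_inv_cancel₀ hc, one_mul]
  congr 1
  refine Finset.sum_bij (fun g _ => (g : H ⧸ Q)) (fun g hg => ?_) (fun g hg g' hg' e => ?_)
    (fun y hy => ?_) (fun g _ => rfl)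
  · exact Finset.mem_filter.2 ⟨Finset.mem_univ _, fun h => (Finset.mem_filter.1 hg).2
      (h.trans (orderOf_map_dvd (QuotientGroup.mk' Q) g))⟩
  · exact BlocksCharsC.SmallCent.regular_eq_of_mk_eq Q hQ hQc (Finset.mem_filter.1 hg).2
      (Finset.mem_filter.1 hg').2 e
  · obtain ⟨g, hg, e⟩ := BlocksCharsC.SmallCent.exists_regular_lift Q (Finset.mem_filter.1 hy).2
    exact ⟨g, Finset.mem_filter.2 ⟨Finset.mem_univ _, hg⟩, e⟩

variable {b : Set (IrrCharacter H)} {Bq : Set (IrrCharacter (H ⧸ Q))} [Fintype (H ⧸ Q)]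

open Classical in
/-- Regular restrictions in a block are integral combinations of the inflations of the block of
the quotient. -/
theorem exists_int_expansion_quotient (hM : Cfsg.IsPModular p M) (hb : Cfsg.IsPBlock M b)
    (himg : kerPart Q b = infl Q '' Bq) {η : IrrCharacter H} (hη : η ∈ b) :
    ∃ c : IrrCharacter (H ⧸ Q) → ℤ, ∀ g : H, ¬ p ∣ orderOf g →
      (η : H → ℂ) g = ∑ ψ : IrrCharacter (H ⧸ Q),
        if ψ ∈ Bq then (c ψ : ℂ) * (ψ : H ⧸ Q → ℂ) (g : H ⧸ Q) else 0 := by
  obtain ⟨c, hc⟩ := exists_int_expansion Q hQ hQc hM hb hη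
  refine ⟨fun ψ => c (infl Q ψ), fun g hg => ?_⟩
  rw [hc g hg, ← Finset.sum_filter, ← Finset.sum_filter,
    show Finset.univ.filter (· ∈ kerPart Q b) = (Finset.univ.filter (· ∈ Bq)).image (infl Q) by
      ext χ; simp [himg, eq_comm],
    Finset.sum_image fun a _ b _ h => infl_injective Q h]
  rfl

open Classical in
theorem blockRank_le_quotient (hM : Cfsg.IsPModular p M) (hb : Cfsg.IsPBlock M b)
    (himg : kerPart Q b = infl Q '' Bq) : Cfsg.blockRank p b ≤ Cfsg.blockRank p Bq := by
  set W := Submodule.span ℂ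
    ((fun χ : IrrCharacter (H ⧸ Q) => Cfsg.pRegularPart p (χ : H ⧸ Q → ℂ)) '' Bq)
  let L : (H ⧸ Q → ℂ) →ₗ[ℂ] (H → ℂ) :=
    { toFun := fun f g => if p ∣ orderOf g then 0 else f (g : H ⧸ Q)
      map_add' := fun a c => funext fun g => by simp only [Pi.add_apply]; split_ifs <;> simp
      map_smul' := fun r a => funext fun g => by simp }
  refine le_trans (Submodule.finrank_mono (t := W.map L) (Submodule.span_le.2 ?_))
    (Submodule.finrank_map_le L W)
  rintro _ ⟨η, hη, rfl⟩
  obtain ⟨c, hc⟩ := exists_int_expansion_quotient Q hQ hQc hM hb himg hη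
  refine ⟨∑ ψ ∈ Bq.toFinset, (c ψ : ℂ) • Cfsg.pRegularPart p (ψ : H ⧸ Q → ℂ),
    Submodule.sum_mem _ fun ψ hψ => Submodule.smul_mem _ _
      (Submodule.subset_span ⟨ψ, Set.mem_toFinset.1 hψ, rfl⟩), ?_⟩
  funext g
  show (if p ∣ orderOf g then (0 : ℂ) else _) = Cfsg.pRegularPart p (η : H → ℂ) g
  by_cases hg : p ∣ orderOf g
  · simp [pRegularPart_apply, hg]
  · rw [if_neg hg, pRegularPart_apply, if_neg hg, hc g hg, Finset.sum_apply, ← Finset.sum_filter]
    refine Finset.sum_congr (by ext; simp) fun ψ _ => ?_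
    rw [Pi.smul_apply, smul_eq_mul, pRegularPart_apply,
      if_neg fun h => hg (h.trans (orderOf_map_dvd (QuotientGroup.mk' Q) g))]

open Classical in
/-- An integral form value of `b`, read in the quotient. -/
theorem exists_quotient_combination (hM : Cfsg.IsPModular p M) (hb : Cfsg.IsPBlock M b)
    (himg : kerPart Q b = infl Q '' Bq) (w : IrrCharacter H → ℤ) :
    ∃ c : IrrCharacter (H ⧸ Q) → ℤ,
      (Nat.card Q : ℂ) * regInner p
          (fun g => ∑ η : IrrCharacter H, if η ∈ b then (w η : ℂ) * (η : H → ℂ) g else 0)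
          (fun g => ∑ η : IrrCharacter H, if η ∈ b then (w η : ℂ) * (η : H → ℂ) g else 0) =
        regInner p
          (fun y => ∑ ψ, if ψ ∈ Bq then (c ψ : ℂ) * (ψ : H ⧸ Q → ℂ) y else 0)
          (fun y => ∑ ψ, if ψ ∈ Bq then (c ψ : ℂ) * (ψ : H ⧸ Q → ℂ) y else 0) := by
  choose c hc using fun η : b => exists_int_expansion_quotient Q hQ hQc hM hb himg η.2
  refine ⟨fun ψ => ∑ η : b, w η * c η ψ, ?_⟩
  rw [← regInner_quotient Q hQ hQc]
  congr 1
  simp only [regInner]
  congr 1
  refine Finset.sum_congr rfl fun g _ => ?_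
  by_cases hg : p ∣ orderOf g
  · simp [hg]
  simp only [if_neg hg]
  have he : (∑ η : IrrCharacter H, if η ∈ b then (w η : ℂ) * (η : H → ℂ) g else 0) =
      ∑ ψ : IrrCharacter (H ⧸ Q), if ψ ∈ Bq then
        ((∑ η : b, w η * c η ψ : ℤ) : ℂ) * (ψ : H ⧸ Q → ℂ) (g : H ⧸ Q) else 0 := by
    rw [← Finset.sum_filter, Finset.sum_subtype (p := (· ∈ b)) _ (fun x => by simp)
      (fun η => (w η : ℂ) * (η : H → ℂ) g),
      Finset.sum_congr rfl fun (η : b) _ => by rw [hc η g hg, Finset.mul_sum], Finset.sum_comm]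
    refine Finset.sum_congr rfl fun ψ _ => ?_
    split_ifs
    · push_cast
      rw [Finset.sum_mul]
      exact Finset.sum_congr rfl fun η _ => by ring
    · simp
  rw [he]

omit hQ hQc

variable {G : Type u} [Group G] [Fintype G] {z : G} {B : Set (IrrCharacter G)}
  {b' : Set (IrrCharacter ↥(Subgroup.centralizer ({z} : Set G)))}
  [Fintype ↥(Subgroup.centralizer ({z} : Set G))]

open Classical in
theorem form_eq_regInner (D : Data M p z B b')
    (w : IrrCharacter ↥(Subgroup.centralizer ({z} : Set G)) → ℤ) :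
    (form D.C w w : ℂ) = ((p ^ D.d : ℕ) : ℂ) * regInner p
      (fun g => ∑ η, if η ∈ b' then
        (w η : ℂ) * (η : ↥(Subgroup.centralizer ({z} : Set G)) → ℂ) g else 0)
      (fun g => ∑ η, if η ∈ b' then
        (w η : ℂ) * (η : ↥(Subgroup.centralizer ({z} : Set G)) → ℂ) g else 0) := by
  set u : IrrCharacter ↥(Subgroup.centralizer ({z} : Set G)) → ℂ :=
    fun η => if η ∈ b' then (w η : ℂ) else 0
  rw [show (fun g => ∑ η, if η ∈ b' then
      (w η : ℂ) * (η : ↥(Subgroup.centralizer ({z} : Set G)) → ℂ) g else 0) =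
      fun g => ∑ η, u η * (η : ↥(Subgroup.centralizer ({z} : Set G)) → ℂ) g from
    funext fun g => Finset.sum_congr rfl fun η _ => by simp only [u]; split_ifs <;> simp]
  rw [regInner_sum_left, Finset.mul_sum, form, Int.cast_sum]
  refine Finset.sum_congr rfl fun x _ => ?_
  rw [regInner_sum_right, Int.cast_sum, Finset.mul_sum, Finset.mul_sum]
  refine Finset.sum_congr rfl fun y _ => ?_
  by_cases h : x ∈ b' ∧ y ∈ b'
  · simp only [u, if_pos h.1, if_pos h.2, map_intCast]
    push_cast [D.C_eq x y h.1 h.2]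
    ring
  · rw [D.C_zero x y h, mul_zero, Int.cast_zero]
    rcases not_and_or.1 h with h | h <;> simp [u, h]

/-- `k ≤ p ^ d` when the block of the quotient by `z` has cyclic shape. -/
theorem card_le_of_cyclicShape (hM : Cfsg.IsPModular p M) {k a : ℕ} (hk : orderOf z = p ^ k)
    (hind : Cfsg.IsInducedBlock M (Subgroup.centralizer ({z} : Set G)) b' B)
    (hd : Cfsg.blockDefect p b' = Cfsg.blockDefect p B)
    {Bz : Set (IrrCharacter (↥(Subgroup.centralizer ({z} : Set G)) ⧸ cycC z))}
    (hBz : Cfsg.IsPBlock M Bz) (himg : kerPart (cycC z) b' = infl (cycC z) '' Bz)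
    (ha : 1 ≤ a) (hka : k + a = Cfsg.blockDefect p B) (hsh : HasCyclicShape p Bz a) :
    Nat.card B ≤ p ^ Cfsg.blockDefect p B := by
  classical
  haveI := Fintype.ofFinite (↥(Subgroup.centralizer ({z} : Set G)) ⧸ cycC z)
  have hQ : IsPGroup p (cycC z) := IsPGroup.of_card (n := k) (by rw [card_cycC, hk])
  have hl := blockRank_le_quotient (cycC z) hQ (cycC_le_center z) hM hind.1 himg
  have hpos : 1 ≤ Cfsg.blockRank p b' := one_le_blockRank (isPBlock_nonempty hind.1)
  have h := card_mul_le_of_form hM ⟨k, hk⟩ hind hd (Cfsg.blockRank p b') fun D hD w => by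
    obtain ⟨c, hc⟩ :=
      exists_quotient_combination (cycC z) hQ (cycC_le_center z) hM hind.1 himg w
    obtain ⟨q, hq, hqe⟩ := rank_le_regInner hM hBz ha hsh c
    rw [← hc, card_cycC, hk] at hqe
    have he : form D.C w w = q := by
      refine Int.cast_injective (α := ℂ) ?_
      rw [form_eq_regInner D w, ← hqe, hD, hd, ← hka, pow_add]
      push_cast
      ring
    rw [he]
    omega
  exact Nat.le_of_mul_le_mul_right h hpos

end CfsgLib.AbelianDefect
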