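import Cfsg.Agent.BlocksLocal.MajorExists

/-!
# A block of the centralizer of an abelian defect group inducing the block
-/

set_option autoImplicit false
set_option linter.unusedSectionVars false
set_option linter.style.haveILetI false

namespace CfsgLib.AbelianDefect

open Cfsg CfsgLib.Blocks

universe u

variable {G : Type u} [Group G] [Fintype G] {M : Ideal AlgInt} [M.IsPrime] {p : ℕ} [Fact p.Prime]
  {B : Set (IrrCharacter G)} {D : Subgroup G}

theorem exists_root_block (hM : Cfsg.IsPModular p M) (hB : Cfsg.IsPBlock M B)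
    (hD : Cfsg.IsDefectGroup p M B D) (hab : ∀ x ∈ D, ∀ y ∈ D, x * y = y * x) :
    ∃ b, Cfsg.IsInducedBlock M (Subgroup.centralizer (D : Set G)) b B := by
  classical
  haveI := charP_res hM
  haveI := Fintype.ofFinite (Subgroup.centralizer (D : Set G))
  have hDp := IsDefectGroup.isPGroup hD
  have hDC : D ≤ Subgroup.centralizer (D : Set G) := fun x hx =>
    Subgroup.mem_centralizer_iff.2 fun y hy => hab y hy x hx
  have hCN : Subgroup.centralizer (D : Set G) ≤ Subgroup.normalizer (D : Set G) :=
    Subgroup.centralizer_le_normalizer _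
  have hloc : BlocksLocal.LocalSections.IsLocal p (Subgroup.centralizer (D : Set G)) :=
    ⟨D, hDp, hDC, le_rfl, hCN⟩
  set hBU := isBlockUnion_of_isPBlock hB
  set A := overSet M (Subgroup.centralizer (D : Set G)) B hBU
  have hA : IsBlockUnion M A := isBlockUnion_overSet _ hBU
  set e' := brHom (p := p) D (Subgroup.centralizer (D : Set G)) hDp le_rfl hCN
    (idemBar M B hBU) with he'
  have heA : e' = idemBar M A hA := by
    refine eq_of_isNilpotent_sub_of_isIdempotentElem ?_ (idemBar_mul_self A hA) ?_
    · show _ * _ = _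
      rw [he', ← map_mul, idemBar_mul_self]
    · refine isNilpotent_of_omegaBar_eq_zero _ fun ξ => ?_
      rw [map_sub, he', brHom_apply, ← omegaBar_resCtr_eq_brRes hM hDp hDC hCN,
        BlocksLocal.LocalSections.omegaBar_res_idem hM hB hloc, omegaBar_idemBar, sub_self]
  obtain ⟨g, hgD, hg⟩ := IsDefectGroup.exists_coeff hB hD
  have hne : (idemBar M A hA : MonoidAlgebra (Res M) (Subgroup.centralizer (D : Set G))).coeff
      ⟨g, hgD⟩ ≠ 0 := by
    rw [← heA, he', brHom_apply, coeff_brRes_of_mem hCN _ hgD]
    exact hg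
  obtain ⟨η, hη, -⟩ := BlocksLocal.exists_block_coeff_ne_zero hA hne
  obtain ⟨β, -, hβ⟩ := (BlocksLocal.LocalSections.mem_overSet_iff_induced hM hB hloc η).1 hη
  exact ⟨β, hβ⟩

end CfsgLib.AbelianDefect
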