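import Cfsg.Agent.AbelianDefect.CyclicForm
import Cfsg.Agent.AbelianDefect.Root

/-!
# The shape of a block from its inertial data

The inertia group of a root and the passage from the signed relation to `HasCyclicShape`.
-/

set_option autoImplicit false
set_option linter.unusedSectionVars false
set_option linter.style.haveILetI false

namespace CfsgLib.AbelianDefect

open Cfsg CfsgLib.Blocks

universe u

variable {G : Type u} [Group G]

/-- The stabilizer in the normalizer of `D` of a set of characters of the centralizer. -/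
def StabCond (D : Subgroup G) (b : Set (IrrCharacter (Subgroup.centralizer (D : Set G)))) (g : G) :
    Prop :=
  g ∈ Subgroup.normalizer (D : Set G) ∧ ∀ θ ∈ b,
    ∀ θ' : IrrCharacter (Subgroup.centralizer (D : Set G)),
      (∀ h h' : Subgroup.centralizer (D : Set G), (h' : G) = g * h * g⁻¹ →
        (θ' : Subgroup.centralizer (D : Set G) → ℂ) h' =
          (θ : Subgroup.centralizer (D : Set G) → ℂ) h) → θ' ∈ b

theorem stabCond_one (D : Subgroup G) (b : Set (IrrCharacter (Subgroup.centralizer (D : Set G)))) :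
    StabCond D b 1 := by
  refine ⟨one_mem _, fun θ hθ θ' h => ?_⟩
  have : θ' = θ := Subtype.ext (funext fun x => h x x (by simp))
  rwa [this]

theorem stabCond_mul (D : Subgroup G) (b : Set (IrrCharacter (Subgroup.centralizer (D : Set G))))
    {g g' : G} (hg : StabCond D b g) (hg' : StabCond D b g') : StabCond D b (g * g') := by
  refine ⟨mul_mem hg.1 hg'.1, fun θ hθ θ' h => ?_⟩
  have hconj : ∀ x : G, x ∈ Subgroup.normalizer (D : Set G) → ∀ c ∈ (Subgroup.centralizer (D : Set G)), x * c * x⁻¹ ∈ (Subgroup.centralizer (D : Set G)) := by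
    intro x hx c hc
    refine Subgroup.mem_centralizer_iff.2 fun d hd => ?_
    have hd' : x⁻¹ * d * x ∈ D := by
      have := (Subgroup.mem_normalizer_iff.1 ((Subgroup.normalizer _).inv_mem hx) d).1 hd
      simpa using this
    have := Subgroup.mem_centralizer_iff.1 hc _ hd'
    calc d * (x * c * x⁻¹) = x * (x⁻¹ * d * x * c) * x⁻¹ := by group
      _ = x * (c * (x⁻¹ * d * x)) * x⁻¹ := by rw [this]
      _ = x * c * x⁻¹ * d := by group
  -- the intermediate conjugate
  let e : (Subgroup.centralizer (D : Set G)) →* (Subgroup.centralizer (D : Set G)) :=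
    { toFun := fun c => ⟨g * c * g⁻¹, hconj g hg.1 c c.2⟩
      map_one' := Subtype.ext (by simp)
      map_mul' := fun a a' => Subtype.ext (by simp [mul_assoc]) }
  have hsurj : Function.Surjective e := fun c =>
    ⟨⟨g⁻¹ * c * g, by simpa using hconj g⁻¹ ((Subgroup.normalizer _).inv_mem hg.1) c c.2⟩,
      Subtype.ext (by simp [e]; group)⟩
  let θ₁ : IrrCharacter (Subgroup.centralizer (D : Set G)) :=
    ⟨fun c => (θ' : (Subgroup.centralizer (D : Set G)) → ℂ) (e c), Characters.isIrr_comp e hsurj θ'.2⟩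
  have h1 : θ₁ ∈ b := hg'.2 θ hθ θ₁ fun x x' hx => h x (e x') (by
    show g * (x' : G) * g⁻¹ = _
    rw [hx]; group)
  refine hg.2 θ₁ h1 θ' fun x x' hx => ?_
  exact congrArg (θ' : (Subgroup.centralizer (D : Set G)) → ℂ) (Subtype.ext hx)

theorem exists_stab [Finite G] (D : Subgroup G)
    (b : Set (IrrCharacter (Subgroup.centralizer (D : Set G)))) :
    ∃ T : Subgroup G, ∀ g : G, g ∈ T ↔ StabCond D b g := by
  let N : Submonoid G :=
    { carrier := {g | StabCond D b g}
      one_mem' := stabCond_one D b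
      mul_mem' := fun h h' => stabCond_mul D b h h' }
  refine ⟨{ N with inv_mem' := fun {x} hx => ?_ }, fun g => Iff.rfl⟩
  have h : x⁻¹ = x ^ (orderOf x - 1) := by
    refine inv_eq_of_mul_eq_one_right ?_
    rw [← pow_succ', Nat.sub_add_cancel (orderOf_pos x), pow_orderOf_eq_one]
  rw [h]
  exact N.pow_mem hx _

theorem hasCyclicShape_of_relation [Fintype G] {p : ℕ} [hp : Fact p.Prime]
    {B : Set (IrrCharacter G)} {a e : ℕ} (he : e ∣ p - 1) (hrank : Cfsg.blockRank p B = e)
    (h : ∃ X Y : Set (IrrCharacter G), B = X ∪ Y ∧ Disjoint X Y ∧ Nat.card X = e ∧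
      Nat.card Y = (p ^ a - 1) / e ∧ ∃ (δ : IrrCharacter G → ℤ) (δ₀ : ℤ),
        (∀ χ ∈ X, δ χ = 1 ∨ δ χ = -1) ∧ (δ₀ = 1 ∨ δ₀ = -1) ∧
        ∀ ψ ∈ Y, ∀ g : G, ¬ p ∣ orderOf g →
          (δ₀ : ℂ) * (ψ : G → ℂ) g + ∑ᶠ χ ∈ X, (δ χ : ℂ) * (χ : G → ℂ) g = 0) :
    HasCyclicShape p B a := by
  obtain ⟨X, Y, hXY, hdis, hX, hY, δ, δ₀, hδ, hδ₀, hrel⟩ := h
  have he' : e ∣ p ^ a - 1 := he.trans (by simpa using Nat.sub_dvd_pow_sub_pow p 1 a)
  refine ⟨X, Y, δ, δ₀, hXY, hdis, ?_, hrank.trans hX.symm, hδ, hδ₀, hrel⟩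
  rw [hX, hY, Nat.mul_div_cancel' he', Nat.sub_add_cancel (Nat.one_le_pow _ _ hp.out.pos)]

end CfsgLib.AbelianDefect
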